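import Mathlib

/-!
# Calculus of centre-axis pairs of a group generated by transvections
-/

set_option autoImplicit false
set_option linter.all false

namespace CfsgLib.RootSub.Pairs

open Relation

variable {F V V' : Type*} [Field F] [AddCommGroup V] [Module F V] [AddCommGroup V'] [Module F V']

/-- a subspace stable under all transvections given by the pairs -/
def Inv (e : V →ₗ[F] V' →ₗ[F] F) (X : V → V' → Prop) (M : Submodule F V) : Prop :=
  ∀ u φ, X u φ → u ∈ M ∨ ∀ m ∈ M, e m φ = 0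

/-- the pairs of a group of transvections without unipotent normal subgroup -/
structure Good (e : V →ₗ[F] V' →ₗ[F] F) (X : V → V' → Prop) : Prop where
  room : ∀ a b : F, ∃ c, c ≠ a ∧ c ≠ b
  orth : ∀ {u φ}, X u φ → e u φ = 0
  ne_u : ∀ {u φ}, X u φ → u ≠ 0
  ne_φ : ∀ {u φ}, X u φ → φ ≠ 0
  smul_u : ∀ {u φ} {c : F}, X u φ → c ≠ 0 → X (c • u) φ
  smul_φ : ∀ {u φ} {c : F}, X u φ → c ≠ 0 → X u (c • φ)
  add_φ : ∀ {u φ ψ}, X u φ → X u ψ → φ + ψ ≠ 0 → X u (φ + ψ)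
  add_u : ∀ {u w φ}, X u φ → X w φ → u + w ≠ 0 → X (u + w) φ
  conj : ∀ {u φ w ψ}, X u φ → X w ψ → ∀ c : F, X (w + (c * e w φ) • u) (ψ - (c * e u ψ) • φ)
  partner : ∀ {u φ}, X u φ → ∃ w ψ, X w ψ ∧ e w φ ≠ 0 ∧ e u ψ ≠ 0
  noRad : ∀ M, Inv e X M → ∀ {u φ}, X u φ → u ∈ M → (∀ m ∈ M, e m φ = 0) → False
  noRad' : ∀ M, Inv e.flip (fun φ u => X u φ) M → ∀ {φ u}, X u φ → φ ∈ M → (∀ m ∈ M, e u m = 0) → False
  twin : ∀ M, Inv e X M → ∀ {u u' φ φ'}, X u φ → X u' φ' → u ∈ M → u' ∈ M →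
    (∀ w ψ, X w ψ → e (u' - u) ψ = 0) → (∀ m ∈ M, e m φ' = e m φ) → u' = u
  twin' : ∀ M, Inv e.flip (fun φ u => X u φ) M → ∀ {φ φ' u u'}, X u φ → X u' φ' → φ ∈ M → φ' ∈ M →
    (∀ ψ w, X w ψ → e w (φ' - φ) = 0) → (∀ m ∈ M, e u' m = e u m) → φ' = φ

variable {e : V →ₗ[F] V' →ₗ[F] F} {X : V → V' → Prop}

theorem Good.swap (h : Good e X) : Good e.flip (fun φ u => X u φ) where
  room := h.room
  orth := fun hx => h.orth hx
  ne_u := fun hx => h.ne_φ hx
  ne_φ := fun hx => h.ne_u hx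
  smul_u := fun hx hc => h.smul_φ hx hc
  smul_φ := fun hx hc => h.smul_u hx hc
  add_φ := fun hx hy hne => h.add_u hx hy hne
  add_u := fun hx hy hne => h.add_φ hx hy hne
  conj := fun {φ u ψ w} hx hy c => by
    simpa [sub_eq_add_neg] using h.conj hx hy (-c)
  partner := fun hx => by
    obtain ⟨w, ψ, h1, h2, h3⟩ := h.partner hx
    exact ⟨ψ, w, h1, h3, h2⟩
  noRad := fun M hM {_ _} hx hm hk => h.noRad' M hM hx hm hk
  noRad' := fun M hM {_ _} hx hm hk => h.noRad M (by simpa using hM) hx hm hk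
  twin := fun M hM {_ _ _ _} hx hy hm hm' hf hk => h.twin' M hM hx hy hm hm' hf hk
  twin' := fun M hM {_ _ _ _} hx hy hm hm' hf hk => h.twin M (by simpa using hM) hx hy hm hm' hf hk

/-- there is a functional at the vector -/
def Cen (X : V → V' → Prop) (u : V) : Prop := ∃ φ, X u φ

/-- two centres of a rank one pair -/
def R (e : V →ₗ[F] V' →ₗ[F] F) (X : V → V' → Prop) (u w : V) : Prop :=
  ∃ φ ψ, X u φ ∧ X w ψ ∧ e w φ ≠ 0 ∧ e u ψ ≠ 0

/-- the class of a centre -/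
def K (e : V →ₗ[F] V' →ₗ[F] F) (X : V → V' → Prop) (u : V) : Set V := {w | ReflTransGen (R e X) u w}

/-- the span of a class -/
def U (e : V →ₗ[F] V' →ₗ[F] F) (X : V → V' → Prop) (u : V) : Submodule F V := Submodule.span F (K e X u)

/-- the common kernel of a class -/
def C (e : V →ₗ[F] V' →ₗ[F] F) (X : V → V' → Prop) (u : V) : Submodule F V where
  carrier := {v | ∀ w ∈ K e X u, ∀ ψ, X w ψ → e v ψ = 0}
  add_mem' := fun {a b} ha hb w hw ψ hψ => by
    rw [map_add, LinearMap.add_apply, ha w hw ψ hψ, hb w hw ψ hψ, add_zero]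
  zero_mem' := fun w _ ψ _ => by rw [map_zero, LinearMap.zero_apply]
  smul_mem' := fun c a ha w hw ψ hψ => by
    rw [map_smul, LinearMap.smul_apply, ha w hw ψ hψ, smul_zero]

theorem R.symm {u w : V} : R e X u w → R e X w u := fun ⟨φ, ψ, a, b, c, d⟩ => ⟨ψ, φ, b, a, d, c⟩

theorem R.cen {u w : V} : R e X u w → Cen X w := fun ⟨_, ψ, _, b, _, _⟩ => ⟨ψ, b⟩

theorem K.cen {u w : V} (hu : Cen X u) (hw : w ∈ K e X u) : Cen X w := by
  rcases ReflTransGen.cases_tail hw with rfl | ⟨b, -, hb⟩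
  exacts [hu, hb.cen]

theorem K.step {u w z : V} (hw : w ∈ K e X u) (h : R e X w z) : z ∈ K e X u := ReflTransGen.tail hw h

theorem K.symm {u w : V} (hw : w ∈ K e X u) : u ∈ K e X w := by
  induction hw with
  | refl => exact ReflTransGen.refl
  | tail _ h ih => exact ReflTransGen.head h.symm ih

theorem K.trans {u w z : V} (hw : w ∈ K e X u) (hz : z ∈ K e X w) : z ∈ K e X u := ReflTransGen.trans hw hz

variable (hG : Good e X)
include hG

/-- the commutator of two transvections -/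
theorem comm {u w : V} {φ ψ : V'} (h1 : X u φ) (h2 : X w ψ) (h3 : e w φ ≠ 0) (h4 : e u ψ = 0) : X u ψ := by
  have h := hG.conj h1 h2 (e w φ)⁻¹
  rw [inv_mul_cancel₀ h3, one_smul, h4, mul_zero, zero_smul, sub_zero] at h
  have h5 := hG.add_u h (hG.smul_u (c := (-1 : F)) h2 (by simp))
  simp only [neg_smul, one_smul, add_comm w u, add_neg_cancel_right] at h5
  exact h5 (hG.ne_u h1)

/-- conjugation preserves rank one pairs -/
theorem R.conj {z a b : V} {ζ : V'} (hz : X z ζ) (c : F) (h : R e X a b) :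
    R e X (a + (c * e a ζ) • z) (b + (c * e b ζ) • z) := by
  obtain ⟨φ, ψ, h1, h2, h3, h4⟩ := h
  refine ⟨_, _, hG.conj hz h1 c, hG.conj hz h2 c, ?_, ?_⟩
  · simp only [map_add, map_smul, map_sub, LinearMap.add_apply, LinearMap.smul_apply, smul_eq_mul, hG.orth hz]
    ring_nf
    exact h3
  · simp only [map_add, map_smul, map_sub, LinearMap.add_apply, LinearMap.smul_apply, smul_eq_mul, hG.orth hz]
    ring_nf
    exact h4

theorem exists_ne_zero_ne (a : F) : ∃ c : F, c ≠ 0 ∧ c ≠ a := hG.room 0 a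

/-- a centre pairing into a class from outside lies in its span -/
theorem mem_U_of_hit {u₀ u w : V} {φ : V'} (h0 : Cen X u₀) (hw : w ∈ K e X u₀) (hu : X u φ) (hwφ : e w φ ≠ 0) :
    u ∈ U e X u₀ := by
  by_cases hK : u ∈ K e X u₀
  · exact Submodule.subset_span hK
  obtain ⟨ψ, hψ⟩ := K.cen h0 hw
  obtain ⟨w', ψ', hψ', h1, h2⟩ := hG.partner hψ
  have hw' : w' ∈ K e X u₀ := K.step hw ⟨ψ, ψ', hψ, hψ', h1, h2⟩
  have huψ : e u ψ = 0 := by
    by_contra hne
    exact hK (K.step hw ⟨ψ, φ, hψ, hu, hne, hwφ⟩)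
  obtain ⟨c, hc0, hc⟩ : ∃ c : F, c ≠ 0 ∧ e w ψ' - c * (e u ψ' * e w φ) ≠ 0 := by
    by_cases h : e u ψ' = 0
    · exact ⟨1, one_ne_zero, by rw [h]; simpa using h2⟩
    · obtain ⟨c, hc0, hc⟩ := exists_ne_zero_ne hG (e w ψ' / (e u ψ' * e w φ))
      exact ⟨c, hc0, fun he => hc (by rw [eq_div_iff (mul_ne_zero h hwφ)]; linear_combination -he)⟩
  have hR : R e X w (w' + (c * e w' φ) • u) := ⟨ψ, _, hψ, hG.conj hu hψ' c, by
    simpa [huψ] using h1, by simpa [mul_assoc] using hc⟩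
  have ha := K.step hw hR
  have hR' : R e X (w' + (c * e w' φ) • u) (w + (c * e w φ) • u) :=
    R.conj hG hu c ⟨ψ', ψ, hψ', hψ, h2, h1⟩
  have hb : (c * e w φ) • u ∈ U e X u₀ := by
    simpa using (U e X u₀).sub_mem (Submodule.subset_span (K.step ha hR')) (Submodule.subset_span hw)
  exact ((U e X u₀).smul_mem_iff (mul_ne_zero hc0 hwφ)).1 hb

theorem U_inv {u₀ : V} (h0 : Cen X u₀) : Inv e X (U e X u₀) := by
  intro u φ hu
  by_cases h : ∀ w ∈ K e X u₀, e w φ = 0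
  · refine Or.inr fun m hm => ?_
    induction hm using Submodule.span_induction with
    | mem x hx => exact h x hx
    | zero => rw [map_zero, LinearMap.zero_apply]
    | add x y _ _ hx hy => rw [map_add, LinearMap.add_apply, hx, hy, add_zero]
    | smul c x _ hx => rw [map_smul, LinearMap.smul_apply, hx, smul_zero]
  · push Not at h
    obtain ⟨w, hw, hwφ⟩ := h
    exact Or.inl (mem_U_of_hit hG h0 hw hu hwφ)

theorem C_inv {u₀ : V} (h0 : Cen X u₀) : Inv e X (C e X u₀) := by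
  intro u φ hu
  by_cases h : u ∈ C e X u₀
  · exact Or.inl h
  refine Or.inr fun m hm => ?_
  obtain ⟨w, hw, ψ, hψ, hne⟩ : ∃ w ∈ K e X u₀, ∃ ψ, X w ψ ∧ e u ψ ≠ 0 := by
    by_contra hno
    exact h fun w hw ψ hψ => by_contra fun hne => hno ⟨w, hw, ψ, hψ, hne⟩
  by_cases hwφ : e w φ = 0
  · exact hm w hw φ (comm hG hψ hu hne hwφ)
  · exact hm u (K.step hw ⟨ψ, φ, hψ, hu, hne, hwφ⟩) φ hu

theorem inv_inf {M N : Submodule F V} (hM : Inv e X M) (hN : Inv e X N) : Inv e X (M ⊓ N) := fun u φ hu => by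
  rcases hM u φ hu with h | h
  · rcases hN u φ hu with h' | h'
    · exact Or.inl ⟨h, h'⟩
    · exact Or.inr fun m hm => h' m hm.2
  · exact Or.inr fun m hm => h m hm.1

/-- translations inside the span of a set `Z` of detecting centres -/
theorem span_detect {u₀ v b : V} {Z : Set V} (hZ : Z = {z ∈ K e X u₀ | ∃ ζ, X z ζ ∧ e v ζ ≠ 0}) {a : V}
    (hab : ReflTransGen (R e X) a b) :
    ∀ g : V → V, (∀ x y, R e X x y → R e X (g x) (g y)) → (∀ x, g x - x ∈ Submodule.span F Z) → g a ∈ Z →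
      b ∈ Submodule.span F Z := by
  induction hab using ReflTransGen.head_induction_on with
  | refl =>
    intro g _ hg hga
    simpa using (Submodule.span F Z).sub_mem (Submodule.subset_span hga) (hg b)
  | @head a c hac _ ih =>
    intro g hgR hg hga
    by_cases hgc : g c ∈ Z
    · exact ih g hgR hg hgc
    have hR := hgR a c hac
    obtain ⟨hK, ζ, hζ, hvζ⟩ : g a ∈ K e X u₀ ∧ ∃ ζ, X (g a) ζ ∧ e v ζ ≠ 0 := by
      rw [hZ] at hga; exact hga
    obtain ⟨φ, η, hφ, hη, hcφ, haη⟩ := id hR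
    have hcK := K.step hK hR
    have hvη : e v η = 0 := by
      by_contra hne
      exact hgc (hZ ▸ ⟨hcK, η, hη, hne⟩)
    refine ih (fun x => g x + (1 * e (g x) ζ) • g a) (fun x y hxy => R.conj hG hζ 1 (hgR x y hxy)) (fun x => ?_) ?_
    · rw [add_sub_right_comm]
      exact (Submodule.span F Z).add_mem (hg x) (Submodule.smul_mem _ _ (Submodule.subset_span hga))
    · rw [hZ]
      refine ⟨K.step hK ?_, _, hG.conj hζ hη 1, ?_⟩
      · have h := R.conj hG hζ 1 hR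
        rwa [hG.orth hζ, mul_zero, zero_smul, add_zero] at h
      · simp [hvη, haη, hvζ]

/-- centres pairing with a class belong to it -/
theorem mem_K_of_hit {u₀ u w : V} {φ : V'} (h0 : Cen X u₀) (hw : w ∈ K e X u₀) (hu : X u φ) (hwφ : e w φ ≠ 0) :
    u ∈ K e X u₀ := by
  by_contra hK
  have hU := mem_U_of_hit hG h0 hw hu hwφ
  obtain ⟨ψ, hψ⟩ := K.cen h0 hw
  have huψ : e u ψ = 0 := by
    by_contra hne
    exact hK (K.step hw ⟨ψ, φ, hψ, hu, hne, hwφ⟩)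
  have hu' : X u ψ := comm hG hu hψ hwφ huψ
  by_cases hC : u ∈ C e X u₀
  · exact hG.noRad _ (inv_inf hG (U_inv hG h0) (C_inv hG h0)) hu' ⟨hU, hC⟩ fun m hm => hm.2 w hw ψ hψ
  obtain ⟨Z, hZ⟩ : ∃ Z, Z = {z ∈ K e X u₀ | ∃ ζ, X z ζ ∧ e u ζ ≠ 0} := ⟨_, rfl⟩
  obtain ⟨z, hz⟩ : ∃ z, z ∈ Z := by
    by_contra hno
    refine hC fun z hz ζ hζ => by_contra fun hne => hno ⟨z, hZ ▸ ⟨hz, ζ, hζ, hne⟩⟩
  have hz' : z ∈ K e X u₀ := by rw [hZ] at hz; exact hz.1
  have hspan : w ∈ Submodule.span F Z :=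
    span_detect hG hZ (K.trans (K.symm hz') hw) id (fun x y h => h) (fun x => by simp) hz
  refine hwφ ?_
  clear hwφ hu' hw hψ
  induction hspan using Submodule.span_induction with
  | mem x hx =>
    rw [hZ] at hx
    obtain ⟨hx, ζ, hζ, hne⟩ := hx
    by_contra hne'
    exact hK (K.step hx ⟨ζ, φ, hζ, hu, hne, hne'⟩)
  | zero => rw [map_zero, LinearMap.zero_apply]
  | add x y _ _ hx hy => rw [map_add, LinearMap.add_apply, hx, hy, add_zero]
  | smul c x _ hx => rw [map_smul, LinearMap.smul_apply, hx, smul_zero]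

theorem mem_K_of_hit' {u₀ u w : V} {ψ : V'} (h0 : Cen X u₀) (hw : w ∈ K e X u₀) (hψ : X w ψ) (hu : Cen X u)
    (huψ : e u ψ ≠ 0) : u ∈ K e X u₀ :=
  K.trans hw (K.symm (mem_K_of_hit hG hu Relation.ReflTransGen.refl hψ huψ))

/-- a centre in the span of a class is a member of it and is detected by it -/
theorem cen_mem {u₀ v : V} (h0 : Cen X u₀) (hv : Cen X v) (hU : v ∈ U e X u₀) : v ∈ K e X u₀ ∧ v ∉ C e X u₀ := by
  obtain ⟨φ, hφ⟩ := hv
  obtain ⟨w, hw, hwφ⟩ : ∃ w ∈ K e X u₀, e w φ ≠ 0 := by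
    by_contra hno
    refine hG.noRad _ (U_inv hG h0) hφ hU fun m hm => ?_
    induction hm using Submodule.span_induction with
    | mem x hx => exact by_contra fun hne => hno ⟨x, hx, hne⟩
    | zero => rw [map_zero, LinearMap.zero_apply]
    | add x y _ _ hx hy => rw [map_add, LinearMap.add_apply, hx, hy, add_zero]
    | smul c x _ hx => rw [map_smul, LinearMap.smul_apply, hx, smul_zero]
  have hK := mem_K_of_hit hG h0 hw hφ hwφ
  exact ⟨hK, fun hC => hG.noRad _ (inv_inf hG (U_inv hG h0) (C_inv hG h0)) hφ ⟨hU, hC⟩ fun m hm => hm.2 v hK φ hφ⟩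

theorem K.ne_zero {u₀ v : V} (h0 : Cen X u₀) (hv : v ∈ K e X u₀) : v ≠ 0 := by
  obtain ⟨φ, hφ⟩ := K.cen h0 hv
  exact hG.ne_u hφ

/-- the line through two members of a pairing -/
theorem line_mem {u₀ a b : V} {φ : V'} (h0 : Cen X u₀) (ha : a ∈ K e X u₀) (hb : b ∈ K e X u₀) (hφ : X a φ)
    (hne : e b φ ≠ 0) (s : F) : b + s • a ∈ K e X u₀ := by
  obtain ⟨ψ, hψ⟩ := K.cen h0 hb
  have h := hG.conj hφ hψ (s / e b φ)
  rw [div_mul_cancel₀ _ hne] at h
  exact (cen_mem hG h0 ⟨_, h⟩ ((U e X u₀).add_mem (Submodule.subset_span hb)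
    (Submodule.smul_mem _ _ (Submodule.subset_span ha)))).1

section FiniteDim

variable [FiniteDimensional F V']

/-- the functionals at a centre -/
def Ax (hG : Good e X) (u : V) : Submodule F V' where
  carrier := {φ | φ = 0 ∨ X u φ}
  add_mem' := fun {a b} ha hb => by
    by_cases h : a + b = 0
    · exact Or.inl h
    rcases ha with rfl | ha
    · simpa using hb
    rcases hb with rfl | hb
    · exact Or.inr (by simpa using ha)
    exact Or.inr (hG.add_φ ha hb h)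
  zero_mem' := Or.inl rfl
  smul_mem' := fun c a ha => by
    by_cases hc : c = 0
    · exact Or.inl (by rw [hc, zero_smul])
    rcases ha with rfl | ha
    · exact Or.inl (smul_zero _)
    · exact Or.inr (hG.smul_φ ha hc)

theorem mem_Ax {u : V} {φ : V'} (h : φ ∈ Ax hG u) (hne : φ ≠ 0) : X u φ := h.resolve_left hne

theorem orth_Ax {u : V} {φ : V'} (h : φ ∈ Ax hG u) : e u φ = 0 := by
  rcases h with rfl | h
  exacts [map_zero _, hG.orth h]

theorem comm_Ax {u w : V} {φ ψ : V'} (h1 : X u φ) (h3 : e w φ ≠ 0) (hψ : ψ ∈ Ax hG w) (h4 : e u ψ = 0) :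
    ψ ∈ Ax hG u := by
  rcases hψ with rfl | hψ
  exacts [Submodule.zero_mem _, Or.inr (comm hG h1 hψ h3 h4)]

theorem finrank_le_of_R {u w : V} (h : R e X u w) :
    Module.finrank F (Ax hG u) ≤ Module.finrank F (Ax hG w) := by
  obtain ⟨φ, ψ, h1, h2, h3, h4⟩ := h
  obtain ⟨k, hk⟩ : ∃ k : Ax hG u →ₗ[F] F, ∀ f, k f = e w f.1 / e w φ := ⟨(e w φ)⁻¹ • (e w).comp (Ax hG u).subtype,
    fun f => by simp [div_eq_inv_mul]⟩
  have hmem : ∀ f : Ax hG u, f.1 - k f • φ + k f • ψ ∈ Ax hG w := fun f =>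
    (Ax hG w).add_mem (comm_Ax hG h2 h4 ((Ax hG u).sub_mem f.2 (Submodule.smul_mem _ _ (Or.inr h1)))
      (by rw [map_sub, map_smul, smul_eq_mul, hk, div_mul_cancel₀ _ h3, sub_self]))
      (Submodule.smul_mem _ _ (Or.inr h2))
  refine LinearMap.finrank_le_finrank_of_injective (f := ((Ax hG u).subtype - k.smulRight φ + k.smulRight ψ).codRestrict
    (Ax hG w) hmem) ((injective_iff_map_eq_zero _).2 fun f hf => ?_)
  have hf' : f.1 - k f • φ + k f • ψ = 0 := congrArg Subtype.val hf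
  have h5 := congrArg (e u) hf'
  rw [map_add, map_sub, map_smul, map_smul, orth_Ax hG f.2, hG.orth h1, smul_zero, sub_zero, zero_add, map_zero,
    smul_eq_mul] at h5
  rw [(mul_eq_zero.1 h5).resolve_right h4, zero_smul, zero_smul, sub_zero, add_zero] at hf'
  exact Subtype.ext hf'

theorem finrank_eq {u₀ w : V} (hw : w ∈ K e X u₀) :
    Module.finrank F (Ax hG u₀) = Module.finrank F (Ax hG w) := by
  induction hw with
  | refl => rfl
  | tail _ h ih => exact ih.trans (le_antisymm (finrank_le_of_R hG h) (finrank_le_of_R hG h.symm))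

/-- pairing is symmetric inside a class -/
theorem hit_symm {u₀ u w : V} {φ : V'} (h0 : Cen X u₀) (hu : u ∈ K e X u₀) (hw : w ∈ K e X u₀) (hφ : X u φ)
    (hne : e w φ ≠ 0) : ∃ ψ, X w ψ ∧ e u ψ ≠ 0 := by
  by_contra hno
  push Not at hno
  have hle : Ax hG w ≤ Ax hG u := fun ψ hψ => comm_Ax hG hφ hne hψ (by
    rcases hψ with rfl | hψ
    exacts [map_zero _, hno ψ hψ])
  have heq := Submodule.eq_of_le_of_finrank_eq hle ((finrank_eq hG hw).symm.trans (finrank_eq hG hu))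
  exact hne (orth_Ax hG (heq ▸ (Or.inr hφ : φ ∈ Ax hG u)))

theorem R_of_hit {u₀ u w : V} {φ : V'} (h0 : Cen X u₀) (hu : u ∈ K e X u₀) (hw : w ∈ K e X u₀) (hφ : X u φ)
    (hne : e w φ ≠ 0) : R e X u w :=
  let ⟨ψ, h1, h2⟩ := hit_symm hG h0 hu hw hφ hne
  ⟨φ, ψ, hφ, h1, hne, h2⟩

/-- any two members have a common partner -/
theorem exists_mid {u₀ a : V} (h0 : Cen X u₀) (ha : a ∈ K e X u₀) :
    ∃ z, R e X u₀ z ∧ R e X z a := by
  classical
  induction ha with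
  | refl =>
    obtain ⟨φ, hφ⟩ := h0
    obtain ⟨w, ψ, h1, h2, h3⟩ := hG.partner hφ
    exact ⟨w, ⟨φ, ψ, hφ, h1, h2, h3⟩, ⟨ψ, φ, h1, hφ, h3, h2⟩⟩
  | @tail a b hab h ih =>
    obtain ⟨z, hz1, hz2⟩ := ih
    have hzK : z ∈ K e X u₀ := ReflTransGen.single hz1
    obtain ⟨φu, -, hφu, -, h1, -⟩ := id hz1
    obtain ⟨φb, -, hφb, -, h2, -⟩ := h.symm
    obtain ⟨φz, -, hφz, -, h3, -⟩ := id hz2
    obtain ⟨s, hs1, hs2⟩ : ∃ s : F, e a φu + s * e z φu ≠ 0 ∧ e a φb + s * e z φb ≠ 0 := by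
      obtain ⟨s, hs, hs'⟩ := hG.room (-(e a φu) / e z φu) (if e z φb = 0 then 0 else -(e a φb) / e z φb)
      refine ⟨s, fun he => hs (by rw [eq_div_iff h1]; linear_combination he), ?_⟩
      split_ifs at hs' with hzb
      · rwa [hzb, mul_zero, add_zero]
      · exact fun he => hs' (by rw [eq_div_iff hzb]; linear_combination he)
    have hmem := line_mem hG h0 hzK hab hφz h3 s
    refine ⟨a + s • z, R_of_hit hG h0 ReflTransGen.refl hmem hφu ?_,
      (R_of_hit hG h0 (K.step hab h) hmem hφb ?_).symm⟩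
    · simpa using hs1
    · simpa using hs2

/-- sums of two members -/
theorem sum_mem {u₀ u w : V} (h0 : Cen X u₀) (hu : u ∈ K e X u₀) (hw : w ∈ K e X u₀) (hC : u + w ∉ C e X u₀) :
    u + w ∈ K e X u₀ := by
  by_cases hp : ∃ φ, X u φ ∧ e w φ ≠ 0
  · obtain ⟨φ, h1, h2⟩ := hp
    simpa [add_comm] using line_mem hG h0 hu hw h1 h2 1
  push Not at hp
  have hq : ∀ ψ, X w ψ → e u ψ = 0 := fun ψ hψ => by
    by_contra hne
    obtain ⟨φ, h1, h2⟩ := hit_symm hG h0 hw hu hψ hne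
    exact h2 (hp φ h1)
  obtain ⟨x₀, hr1, hr2⟩ := exists_mid hG (K.cen h0 hu) (K.trans (K.symm hu) hw)
  have hx₀ : x₀ ∈ K e X u₀ := K.step hu hr1
  obtain ⟨φ, ξ₁, hφ, hξ₁, hφx, hξ₁u⟩ := hr1
  obtain ⟨ξ₂, ψ, hξ₂, hψ, hξ₂w, hψx⟩ := hr2
  obtain ⟨ξ, hξ, hξu, hξw⟩ : ∃ ξ, X x₀ ξ ∧ e u ξ ≠ 0 ∧ e w ξ ≠ 0 := by
    by_cases h1 : e w ξ₁ = 0
    · by_cases h2 : e u ξ₂ = 0
      · refine ⟨ξ₁ + ξ₂, hG.add_φ hξ₁ hξ₂ fun h => hξ₁u ?_, by simp [h2, hξ₁u], by simp [h1, hξ₂w]⟩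
        simpa [h2] using congrArg (e u) h
      · exact ⟨ξ₂, hξ₂, h2, hξ₂w⟩
    · exact ⟨ξ₁, hξ₁, hξ₁u, h1⟩
  obtain ⟨x, ζ, hx, hζ, hζu, hζw, hζv⟩ : ∃ x ζ, x ∈ K e X u₀ ∧ X x ζ ∧ e u ζ ≠ 0 ∧ e w ζ ≠ 0 ∧ e (u + w) ζ ≠ 0 := by
    by_cases hv : e (u + w) ξ = 0
    swap
    · exact ⟨x₀, ξ, hx₀, hξ, hξu, hξw, hv⟩
    obtain ⟨y, hy, η, hη, hηv⟩ : ∃ y ∈ K e X u₀, ∃ η, X y η ∧ e (u + w) η ≠ 0 := by
      by_contra hno
      exact hC fun y hy η hη => by_contra fun hne => hno ⟨y, hy, η, hη, hne⟩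
    by_cases hb : e u η ≠ 0 ∧ e w η ≠ 0
    · exact ⟨y, η, hy, hη, hb.1, hb.2, hηv⟩
    -- one of the two values vanishes
    have key : ∀ a b φa ξ', a ∈ K e X u₀ → X a φa → (∀ f, X a f → e b f = 0) → X x₀ ξ' → e a ξ' ≠ 0 → e b ξ' ≠ 0 →
        e (a + b) ξ' = 0 → e a η ≠ 0 → e b η = 0 →
        ∃ x ζ, x ∈ K e X u₀ ∧ X x ζ ∧ e a ζ ≠ 0 ∧ e b ζ ≠ 0 ∧ e (a + b) ζ ≠ 0 := by
      intro a b φa ξ' ha _ hperp hξ' ha' hb' hv' hηa hηb
      obtain ⟨φ', hφ', hφ'y⟩ := hit_symm hG h0 hy ha hη hηa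
      obtain ⟨s, hs, -⟩ := hG.room (-(e y ξ') / e a ξ') 0
      obtain ⟨k, hk⟩ : ∃ k, k = s / e y φ' := ⟨_, rfl⟩
      have hy' := hG.conj hφ' hη k
      rw [hk, div_mul_cancel₀ _ hφ'y, ← hk] at hy'
      obtain ⟨η', hη'⟩ : ∃ η', η' = η - (k * e a η) • φ' := ⟨_, rfl⟩
      rw [← hη'] at hy'
      have h1 : e b η' = 0 := by rw [hη', map_sub, map_smul, hperp φ' hφ', hηb]; simp
      have h2 : e a η' = e a η := by rw [hη', map_sub, map_smul, hG.orth hφ']; simp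
      have hyξ : e (y + s • a) ξ' ≠ 0 := by
        simp only [map_add, map_smul, LinearMap.add_apply, LinearMap.smul_apply, smul_eq_mul]
        exact fun he => hs (by rw [eq_div_iff ha']; linear_combination he)
      obtain ⟨c, hc0, hc⟩ := exists_ne_zero_ne hG (e a ξ' / (e (y + s • a) ξ' * e a η'))
      have hx' := hG.conj hy' hξ' c
      have hyK := line_mem hG h0 ha hy hφ' hφ'y s
      refine ⟨_, _, (cen_mem hG h0 ⟨_, hx'⟩ ((U e X u₀).add_mem (Submodule.subset_span hx₀)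
        (Submodule.smul_mem _ _ (Submodule.subset_span hyK)))).1, hx', ?_, ?_, ?_⟩
      · rw [map_sub, map_smul, smul_eq_mul]
        refine fun he => hc ?_
        rw [eq_div_iff (mul_ne_zero hyξ (by rwa [h2]))]
        linear_combination -he
      · rw [map_sub, map_smul, h1, smul_zero, sub_zero]; exact hb'
      · have h3 : e (a + b) η' = e a η := by rw [map_add e, LinearMap.add_apply, h1, h2, add_zero]
        rw [map_sub, map_smul, hv', h3, zero_sub, neg_ne_zero, smul_eq_mul]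
        exact mul_ne_zero (mul_ne_zero hc0 hyξ) hηa
    by_cases hηu : e u η = 0
    · have hηw : e w η ≠ 0 := fun h => hηv (by simp [hηu, h])
      obtain ⟨x, ζ, a1, a2, a3, a4, a5⟩ := key w u ψ ξ hw hψ hq hξ hξw hξu (by rwa [add_comm]) hηw hηu
      exact ⟨x, ζ, a1, a2, a4, a3, by rwa [add_comm] at a5⟩
    · exact key u w φ ξ hu hφ hp hξ hξu hξw hv hηu (by tauto)
  obtain ⟨φ', hφ', hφ'x⟩ := hit_symm hG h0 hx hu hζ hζu
  obtain ⟨ψ', hψ', hψ'x⟩ := hit_symm hG h0 hx hw hζ hζw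
  have hu' : u + (1 : F) • x ∈ K e X u₀ := line_mem hG h0 hx hu hζ hζu 1
  have hv' : w + (1 : F) • (u + (1 : F) • x) ∈ K e X u₀ := by
    obtain ⟨f, hf, hfw⟩ := hit_symm hG h0 hw hu' hψ' (by simpa [hq ψ' hψ'] using hψ'x)
    exact line_mem hG h0 hu' hw hf hfw 1
  have h := line_mem hG h0 hx hv' hζ (b := w + (1 : F) • (u + (1 : F) • x))
    (by simpa [hG.orth hζ, add_comm] using hζv) (-1)
  have heq : w + (1 : F) • (u + (1 : F) • x) + (-1 : F) • x = u + w := by module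
  rwa [heq] at h

/-- the span of a class consists of the class and vectors killed by it -/
theorem mem_K_of_notC {u₀ v : V} (h0 : Cen X u₀) (hv : v ∈ U e X u₀) (hC : v ∉ C e X u₀) : v ∈ K e X u₀ := by
  classical
  have key : ∀ x ∈ U e X u₀, ∀ a ∈ K e X u₀, a + x ∉ C e X u₀ → a + x ∈ K e X u₀ := by
    intro x hx
    induction hx using Submodule.closure_induction with
    | zero => intro a ha _; rwa [add_zero]
    | smul_mem c k hk =>
      intro a ha hC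
      by_cases hc : c = 0
      · rwa [hc, zero_smul, add_zero]
      obtain ⟨φ, hφ⟩ := K.cen h0 hk
      exact sum_mem hG h0 ha (cen_mem hG h0 ⟨φ, hG.smul_u hφ hc⟩
        (Submodule.smul_mem _ _ (Submodule.subset_span hk))).1 hC
    | add x y hx hy ihx ihy =>
      intro a ha hC
      by_cases h1 : a + x ∈ C e X u₀
      swap
      · rw [← add_assoc]
        exact ihy _ (ihx a ha h1) (by rwa [add_assoc])
      obtain ⟨φ, hφ⟩ := K.cen h0 ha
      obtain ⟨y₀, ψ, hψ, h2, h3⟩ := hG.partner hφ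
      have hy₀ : y₀ ∈ K e X u₀ := K.step ha ⟨φ, ψ, hφ, hψ, h2, h3⟩
      obtain ⟨z, hz, ζ, hζ, hne⟩ : ∃ z ∈ K e X u₀, ∃ ζ, X z ζ ∧ e (a + (x + y)) ζ ≠ 0 := by
        by_contra hno
        exact hC fun z hz ζ hζ => by_contra fun hne => hno ⟨z, hz, ζ, hζ, hne⟩
      obtain ⟨s, hs, hs'⟩ := exists_ne_zero_ne hG
        (if e y₀ ζ = 0 then 0 else -(e (a + (x + y)) ζ) / e y₀ ζ)
      have ha1 : a + s • y₀ ∈ K e X u₀ := line_mem hG h0 hy₀ ha hψ h3 s
      have hy0C : s • y₀ ∉ C e X u₀ := fun h => (cen_mem hG h0 ⟨ψ, hG.smul_u hψ hs⟩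
        (Submodule.smul_mem _ _ (Submodule.subset_span hy₀))).2 h
      have h4 : a + s • y₀ + x ∉ C e X u₀ := fun h => hy0C (by
        have := (C e X u₀).sub_mem h h1
        rwa [show a + s • y₀ + x - (a + x) = s • y₀ by abel] at this)
      have h5 : a + s • y₀ + x + y ∉ C e X u₀ := fun h => by
        have h6 := h z hz ζ hζ
        rw [show a + s • y₀ + x + y = (a + (x + y)) + s • y₀ by abel, map_add e, LinearMap.add_apply, map_smul e,
          LinearMap.smul_apply, smul_eq_mul] at h6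
        split_ifs at hs' with hz0
        · exact hne (by simpa [hz0] using h6)
        · exact hs' (by rw [eq_div_iff hz0]; linear_combination h6)
      have h7 := ihy _ (ihx _ ha1 h4) h5
      have h8 : (-s) • y₀ ∈ K e X u₀ := (cen_mem hG h0 ⟨ψ, hG.smul_u hψ (neg_ne_zero.2 hs)⟩
        (Submodule.smul_mem _ _ (Submodule.subset_span hy₀))).1
      have h9 : a + (x + y) = (a + s • y₀ + x + y) + (-s) • y₀ := by rw [neg_smul]; abel
      rw [h9]
      exact sum_mem hG h0 h7 h8 (by rwa [← h9])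
  have h := key (v - u₀) ((U e X u₀).sub_mem hv (Submodule.subset_span ReflTransGen.refl)) u₀ ReflTransGen.refl
  rw [add_sub_cancel] at h
  exact h hC

end FiniteDim

end CfsgLib.RootSub.Pairs
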