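import Cfsg.Agent.Lib.RootSub.Pairs.Group
import Cfsg.Agent.Lib.Perm.ExtField.Matrix
import Cfsg.Agent.Lib.Perm.Trans.Symp
import Mathlib.LinearAlgebra.Transvection.Basic

/-!
# Groups containing all transvections, without coordinates
-/

set_option autoImplicit false
set_option linter.all false

namespace CfsgLib.RootSub.Pairs

open Module Matrix

variable {F W : Type*} [Field F] [AddCommGroup W] [Module F W] [FiniteDimensional F W]

theorem Tv.det {g : W ≃ₗ[F] W} {u : W} {φ : Dual F W} (h : Tv g u φ) (h0 : φ u = 0) :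
    LinearMap.det (g : W →ₗ[F] W) = 1 := by
  rw [show (g : W →ₗ[F] W) = LinearMap.transvection φ u from LinearMap.ext fun v => by
    rw [LinearMap.transvection.apply]; exact h v]
  simp [h0]

/-- matrices as automorphisms of a coordinatised space -/
noncomputable def coordEquiv {d : ℕ} (b : (Fin d → F) ≃ₗ[F] W) : GL (Fin d) F ≃* (W ≃ₗ[F] W) :=
  (Matrix.GeneralLinearGroup.toLin.trans (LinearMap.GeneralLinearGroup.generalLinearEquiv F (Fin d → F))).trans
    { toFun := fun f => b.symm.trans (f.trans b)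
      invFun := fun f => b.trans (f.trans b.symm)
      left_inv := fun f => LinearEquiv.ext fun v => by simp
      right_inv := fun f => LinearEquiv.ext fun v => by simp
      map_mul' := fun f g => LinearEquiv.ext fun v => by simp }

omit [FiniteDimensional F W] in
theorem coordEquiv_apply {d : ℕ} (b : (Fin d → F) ≃ₗ[F] W) (g : GL (Fin d) F) (x : W) :
    coordEquiv b g x = b ((g : Matrix (Fin d) (Fin d) F) *ᵥ b.symm x) := rfl

theorem coe_eq_SL [Fintype F] {R : Subgroup (W ≃ₗ[F] W)}
    (hsub : ∀ f ∈ R, LinearMap.det (f : W →ₗ[F] W) = 1)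
    (hall : ∀ (u : W) (φ : Dual F W), φ u = 0 → ∃ g ∈ R, Tv g u φ) :
    (R : Set (W ≃ₗ[F] W)) = {f : W ≃ₗ[F] W | LinearMap.det (f : W →ₗ[F] W) = 1} := by
  refine Set.ext fun f => ⟨fun h => hsub f h, fun hf => ?_⟩
  obtain ⟨d, hd⟩ : ∃ d, d = finrank F W := ⟨_, rfl⟩
  let b : (Fin d → F) ≃ₗ[F] W := (LinearEquiv.ofFinrankEq _ _ (by rw [Module.finrank_fin_fun, hd]))
  have hdet : ∀ g : GL (Fin d) F, LinearMap.det (coordEquiv b g : W →ₗ[F] W) = (g : Matrix (Fin d) (Fin d) F).det := by
    intro g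
    rw [← LinearMap.det_toLin', ← LinearMap.det_conj (Matrix.toLin' (g : Matrix (Fin d) (Fin d) F)) b]
    rfl
  have hmem : ∀ g : GL (Fin d) F,
      g ∈ Cfsg.Geo.specialLinear (Fin d) F ↔ LinearMap.det (coordEquiv b g : W →ₗ[F] W) = 1 := by
    intro g
    rw [CfsgLib.Perm.ExtField.mem_specialLinear_iff, hdet, ← Units.val_inj,
      Matrix.GeneralLinearGroup.val_det_apply, Units.val_one]
  have hM := CfsgLib.Perm.ExtField.subgroup_eq_SL_of_transvections
    (M := R.comap (coordEquiv b).toMonoidHom) (fun g hg => (hmem g).2 (hsub _ hg)) (fun u φ h => by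
      obtain ⟨L, hL⟩ : ∃ L : Dual F (Fin d → F), ∀ x, L x = φ ⬝ᵥ x :=
        ⟨(LinearMap.proj ()).comp (Matrix.mulVecLin (Matrix.of fun _ : Unit => φ)), fun x => rfl⟩
      obtain ⟨g, hg, hgt⟩ := hall (b u) (L.comp b.symm.toLinearMap) (by simpa [hL] using h)
      rw [Subgroup.mem_comap]
      convert hg using 1
      refine LinearEquiv.ext fun x => ?_
      show coordEquiv b _ x = g x
      rw [coordEquiv_apply, CfsgLib.Perm.Asch.tv_mulVec, hgt, map_add, map_smul]
      simp [hL])
  have : (coordEquiv b).symm f ∈ R.comap (coordEquiv b).toMonoidHom := by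
    rw [hM, hmem, MulEquiv.apply_symm_apply]
    exact hf
  simpa using this

theorem coe_eq_Sp [Finite F] {R : Subgroup (W ≃ₗ[F] W)} {B : LinearMap.BilinForm F W} (halt : B.IsAlt)
    (hnd : B.Nondegenerate) (hsub : ∀ f ∈ R, ∀ x y, B (f x) (f y) = B x y)
    (hall : ∀ (u : W) (c : F), ∃ g ∈ R, ∀ v, g v = v + (c * B v u) • u) :
    (R : Set (W ≃ₗ[F] W)) = {f : W ≃ₗ[F] W | ∀ x y, B (f x) (f y) = B x y} := by
  refine Set.ext fun f => ⟨fun h => hsub f h, fun hf => ?_⟩
  obtain ⟨d, hd⟩ : ∃ d, d = finrank F W := ⟨_, rfl⟩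
  let b : (Fin d → F) ≃ₗ[F] W := (LinearEquiv.ofFinrankEq _ _ (by rw [Module.finrank_fin_fun, hd]))
  let ω : (Fin d → F) → (Fin d → F) → F := fun x y => B (b x) (b y)
  have hω : Cfsg.Geo.IsSymplecticForm ω :=
    { bilinear := ⟨fun x y v => by simp [ω], fun c x v => by simp [ω], fun v x y => by simp [ω],
        fun c v x => by simp [ω]⟩
      skew := fun v w => (LinearMap.IsAlt.neg halt (b w) (b v)).symm
      alternating := fun v => halt (b v)
      nondegenerate := fun v hv => by
        constructor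
        · by_contra hno
          refine hv (b.map_eq_zero_iff.1 (hnd.2 (b v) fun y => ?_))
          by_contra hy
          exact hno ⟨b.symm y, by simpa [ω] using hy⟩
        · by_contra hno
          refine hv (b.map_eq_zero_iff.1 (hnd.1 (b v) fun y => ?_))
          by_contra hy
          exact hno ⟨b.symm y, by simpa [ω] using hy⟩ }
  have hiso : ∀ g : GL (Fin d) F, g ∈ CfsgLib.Perm.Trans.Symp.isoSub ω ↔
      ∀ x y, B (coordEquiv b g x) (coordEquiv b g y) = B x y := by
    intro g
    rw [CfsgLib.Perm.Trans.Symp.mem_isoSub]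
    refine ⟨fun h x y => ?_, fun h x y => ?_⟩
    · simpa [ω, coordEquiv_apply] using h (b.symm x) (b.symm y)
    · simpa [ω, coordEquiv_apply] using h (b x) (b y)
  have hM := CfsgLib.Perm.Trans.Symp.eq_isoSub hω (M := R.comap (coordEquiv b).toMonoidHom)
    (fun g hg => (hiso g).2 (hsub _ hg)) (fun u c => by
      obtain ⟨g, hg, hgt⟩ := hall (b u) c
      rw [Subgroup.mem_comap]
      convert hg using 1
      refine LinearEquiv.ext fun x => ?_
      show coordEquiv b _ x = g x
      rw [coordEquiv_apply, CfsgLib.Perm.Trans.Symp.stv_mulVec, hgt, map_add, map_smul]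
      simp [ω])
  have : (coordEquiv b).symm f ∈ R.comap (coordEquiv b).toMonoidHom := by
    rw [hM, hiso, MulEquiv.apply_symm_apply]
    exact hf
  simpa using this

end CfsgLib.RootSub.Pairs
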