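import Cfsg.Agent.Lib.RootSub.Pairs.Basic

/-!
# A class of transvections is linear or symplectic
-/

set_option autoImplicit false
set_option linter.all false

namespace CfsgLib.RootSub.Pairs

open Relation

variable {F V V' : Type*} [Field F] [AddCommGroup V] [Module F V] [AddCommGroup V'] [Module F V']
  [FiniteDimensional F V] [FiniteDimensional F V']
variable {e : V →ₗ[F] V' →ₗ[F] F} {X : V → V' → Prop} (hG : Good e X)
include hG

omit [FiniteDimensional F V] in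
theorem outside_kills {u₀ w x : V} {ψ : V'} (h0 : Cen X u₀) (hw : w ∉ K e X u₀) (hψ : X w ψ)
    (hx : x ∈ U e X u₀) : e x ψ = 0 := by
  induction hx using Submodule.span_induction with
  | mem x hx =>
    by_contra hne
    exact hw (mem_K_of_hit hG h0 hx hψ hne)
  | zero => rw [map_zero, LinearMap.zero_apply]
  | add x y _ _ hx hy => rw [map_add, LinearMap.add_apply, hx, hy, add_zero]
  | smul c x _ hx => rw [map_smul, LinearMap.smul_apply, hx, smul_zero]

omit [FiniteDimensional F V] in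
theorem exists_kernel {u : V} (hL : 2 ≤ Module.finrank F (Ax hG u)) (y : V) :
    ∃ f, X u f ∧ e y f = 0 := by
  by_contra hno
  have hinj : Function.Injective ((e y).comp (Ax hG u).subtype) :=
    (injective_iff_map_eq_zero _).2 fun f hf => by
      by_contra hne
      exact hno ⟨f.1, mem_Ax hG f.2 fun h => hne (Subtype.ext h), hf⟩
  have := LinearMap.finrank_le_finrank_of_injective hinj
  rw [Module.finrank_self] at this
  omega

omit [FiniteDimensional F V] in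
/-- in the linear case any two members share a functional -/
theorem common {u₀ a : V} (h0 : Cen X u₀) (hL : 2 ≤ Module.finrank F (Ax hG u₀)) (ha : a ∈ K e X u₀) :
    ∃ α, X u₀ α ∧ X a α := by
  induction ha with
  | refl => obtain ⟨α, hα⟩ := h0; exact ⟨α, hα, hα⟩
  | @tail b c hb h ih =>
    obtain ⟨α, h1, h2⟩ := ih
    obtain ⟨φb, ψc, hφb, hψc, h3, h4⟩ := id h
    by_cases hc : e c α = 0
    · exact ⟨α, h1, comm hG hψc h2 h4 hc⟩
    obtain ⟨ψ, hψ, hψu⟩ := hit_symm hG h0 ReflTransGen.refl (K.step hb h) h1 hc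
    obtain ⟨f, hf, hfc⟩ := exists_kernel hG hL c
    exact ⟨f, hf, comm hG hψ hf hψu hfc⟩

omit [FiniteDimensional F V] in
theorem axes_prop {u₀ u : V} (hS : ¬ 2 ≤ Module.finrank F (Ax hG u₀)) (hu : u ∈ K e X u₀) {φ φ' : V'}
    (h : X u φ) (h' : X u φ') : ∃ c : F, φ' = c • φ := by
  have hne : (⟨φ, Or.inr h⟩ : Ax hG u) ≠ 0 := fun he => hG.ne_φ h (congrArg Subtype.val he)
  have h1 : Module.finrank F (Ax hG u) = 1 := by
    have h2 := finrank_eq hG hu
    have h3 : 0 < Module.finrank F (Ax hG u) := Module.finrank_pos_iff_exists_ne_zero.2 ⟨_, hne⟩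
    omega
  obtain ⟨c, hc⟩ := (finrank_eq_one_iff_of_nonzero' _ hne).1 h1 ⟨φ', Or.inr h'⟩
  exact ⟨c, (congrArg Subtype.val hc).symm⟩

omit [FiniteDimensional F V] in
/-- no vector of the span is killed by the class -/
theorem eq_zero_of_mem_C {u₀ x : V} (h0 : Cen X u₀) (hx : x ∈ U e X u₀) (hC : x ∈ C e X u₀) : x = 0 := by
  by_contra hx0
  have hu0 : u₀ ∈ U e X u₀ := Submodule.subset_span ReflTransGen.refl
  have hu0C : u₀ ∉ C e X u₀ := (cen_mem hG h0 h0 hu0).2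
  have hz : u₀ + x ∈ U e X u₀ := (U e X u₀).add_mem hu0 hx
  have hzK : u₀ + x ∈ K e X u₀ := mem_K_of_notC hG h0 hz fun h => hu0C (by
    simpa using (C e X u₀).sub_mem h hC)
  by_cases hL : 2 ≤ Module.finrank F (Ax hG u₀)
  · obtain ⟨α, h1, h2⟩ := common hG h0 hL hzK
    have h3 := hG.add_u h2 (hG.smul_u (c := (-1 : F)) h1 (by simp))
    simp only [neg_smul, one_smul, add_neg_cancel_comm] at h3
    exact (cen_mem hG h0 ⟨α, h3 hx0⟩ hx).2 hC
  obtain ⟨φ, hφ⟩ := id h0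
  obtain ⟨φ', hφ'⟩ := K.cen h0 hzK
  have hker : ∀ y ∈ U e X u₀, (e y φ = 0 ↔ e y φ' = 0) := fun y hy => by
    by_cases hyC : y ∈ C e X u₀
    · exact iff_of_true (hyC u₀ ReflTransGen.refl φ hφ) (hyC _ hzK φ' hφ')
    have hyK := mem_K_of_notC hG h0 hy hyC
    constructor <;> intro h <;> by_contra hne
    · obtain ⟨η, hη, hηz⟩ := hit_symm hG h0 hzK hyK hφ' hne
      rw [map_add e, LinearMap.add_apply, hC y hyK η hη, add_zero] at hηz
      obtain ⟨φ₁, hφ₁, hne₁⟩ := hit_symm hG h0 hyK ReflTransGen.refl hη hηz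
      obtain ⟨c, rfl⟩ := axes_prop hG hL ReflTransGen.refl hφ hφ₁
      exact hne₁ (by rw [map_smul, h, smul_zero])
    · obtain ⟨η, hη, hηz⟩ := hit_symm hG h0 ReflTransGen.refl hyK hφ hne
      obtain ⟨φ₁, hφ₁, hne₁⟩ := hit_symm hG h0 hyK hzK hη
        (by rwa [map_add e, LinearMap.add_apply, hC y hyK η hη, add_zero])
      obtain ⟨c, rfl⟩ := axes_prop hG hL hzK hφ' hφ₁
      exact hne₁ (by rw [map_smul, h, smul_zero])
  obtain ⟨y₁, ψ, hψ, hy1, hy2⟩ := hG.partner hφ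
  have hy₁ : y₁ ∈ U e X u₀ := Submodule.subset_span (ReflTransGen.single ⟨φ, ψ, hφ, hψ, hy1, hy2⟩)
  have hy1' : e y₁ φ' ≠ 0 := fun h => hy1 ((hker _ hy₁).2 h)
  obtain ⟨c, hc⟩ : ∃ c, c = e y₁ φ / e y₁ φ' := ⟨_, rfl⟩
  have hc0 : c ≠ 0 := hc ▸ div_ne_zero hy1 hy1'
  refine hx0 ?_
  have h := hG.twin (U e X u₀) (U_inv hG h0) hφ (hG.smul_φ hφ' hc0) hu0 hz (fun w ψ hψ => ?_) fun m hm => ?_
  · simpa using h
  · rw [add_sub_cancel_left]
    by_cases hw : w ∈ K e X u₀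
    exacts [hC w hw ψ hψ, outside_kills hG h0 hw hψ hx]
  · obtain ⟨k, hk⟩ : ∃ k, k = e m φ / e y₁ φ := ⟨_, rfl⟩
    have hm' : e (m - k • y₁) φ = 0 := by
      simp [hk, div_mul_cancel₀ _ hy1]
    have hm'' := (hker _ ((U e X u₀).sub_mem hm (Submodule.smul_mem _ _ hy₁))).1 hm'
    simp only [map_sub, map_smul, LinearMap.sub_apply, LinearMap.smul_apply, smul_eq_mul] at hm' hm'' ⊢
    rw [sub_eq_zero.1 hm'', sub_eq_zero.1 hm', hc]
    field_simp

omit [FiniteDimensional F V] in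
theorem mem_K {u₀ x : V} (h0 : Cen X u₀) (hx : x ∈ U e X u₀) (hx0 : x ≠ 0) : x ∈ K e X u₀ :=
  mem_K_of_notC hG h0 hx fun h => hx0 (eq_zero_of_mem_C hG h0 hx h)

omit [FiniteDimensional F V] in
theorem perp_false {u₀ u x : V} (h0 : Cen X u₀) (hL : 2 ≤ Module.finrank F (Ax hG u₀)) (hu : u ∈ K e X u₀)
    (hx : x ∈ K e X u₀) (hperp : ∀ α ∈ Ax hG u, e x α = 0) (hne : Ax hG u ≠ Ax hG x) : False := by
  have hN : ¬ Ax hG u ≤ Ax hG x := fun h =>
    hne (Submodule.eq_of_le_of_finrank_eq h ((finrank_eq hG hu).symm.trans (finrank_eq hG hx)))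
  have hgood : ∀ y ∈ U e X u₀, (∃ α ∈ Ax hG u, e y α ≠ 0) → (∃ β ∈ Ax hG x, e y β ≠ 0) →
      (∀ f ∈ Ax hG u, e y f = 0 → f ∈ Ax hG x) ∧ ∀ f ∈ Ax hG u, f ∈ Ax hG x → e y f = 0 := by
    rintro y hy ⟨α, hα, hαy⟩ ⟨β, hβ, hβy⟩
    have hy0 : y ≠ 0 := fun h => hαy (by rw [h, map_zero, LinearMap.zero_apply])
    have hyK := mem_K hG h0 hy hy0
    have hα' := mem_Ax hG hα fun h => hαy (by rw [h, map_zero])
    have hβ' := mem_Ax hG hβ fun h => hβy (by rw [h, map_zero])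
    obtain ⟨ψ, hψ, hψu⟩ := hit_symm hG h0 hu hyK hα' hαy
    have h1 : ∀ f ∈ Ax hG u, e y f = 0 → f ∈ Ax hG x := fun f hf hfy =>
      comm_Ax hG hβ' hβy (comm_Ax hG hψ hψu hf hfy) (hperp f hf)
    refine ⟨h1, fun f hf hf' => ?_⟩
    by_contra hfy
    refine hN fun g hg => ?_
    have h2 := h1 (g - (e y g / e y f) • f) ((Ax hG u).sub_mem hg (Submodule.smul_mem _ _ hf))
      (by rw [map_sub, map_smul, smul_eq_mul, div_mul_cancel₀ _ hfy, sub_self])
    simpa using (Ax hG x).add_mem h2 (Submodule.smul_mem _ (e y g / e y f) hf')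
  obtain ⟨φ, hφ⟩ := K.cen h0 hu
  obtain ⟨φ', hφ'⟩ := K.cen h0 hx
  obtain ⟨yu, ψ, hψ, hyu, hψu⟩ := hG.partner hφ
  obtain ⟨yx, ψ', hψ', hyx, hψx⟩ := hG.partner hφ'
  have hyuU : yu ∈ U e X u₀ := Submodule.subset_span (K.step hu ⟨φ, ψ, hφ, hψ, hyu, hψu⟩)
  have hyxU : yx ∈ U e X u₀ := Submodule.subset_span (K.step hx ⟨φ', ψ', hφ', hψ', hyx, hψx⟩)
  obtain ⟨y₀, hy₀, h₀u, h₀x⟩ : ∃ y₀ ∈ U e X u₀, e y₀ φ ≠ 0 ∧ e y₀ φ' ≠ 0 := by
    by_cases h1 : e yu φ' = 0
    · by_cases h2 : e yx φ = 0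
      · exact ⟨yu + yx, (U e X u₀).add_mem hyuU hyxU, by simpa [h2] using hyu, by simpa [h1] using hyx⟩
      · exact ⟨yx, hyxU, h2, hyx⟩
    · exact ⟨yu, hyuU, hyu, h1⟩
  obtain ⟨f, hf, hf0⟩ := exists_kernel hG ((finrank_eq hG hu) ▸ hL) y₀
  have hfx : f ∈ Ax hG x :=
    (hgood y₀ hy₀ ⟨φ, Or.inr hφ, h₀u⟩ ⟨φ', Or.inr hφ', h₀x⟩).1 f (Or.inr hf) hf0
  refine hG.noRad _ (U_inv hG h0) hf (Submodule.subset_span hu) fun y hy => ?_
  obtain ⟨c, hc, hc'⟩ := hG.room (-(e y φ) / e y₀ φ) (-(e y φ') / e y₀ φ')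
  have h := (hgood (y + c • y₀) ((U e X u₀).add_mem hy (Submodule.smul_mem _ _ hy₀))
    ⟨φ, Or.inr hφ, by
      simpa using fun he : e y φ + c * e y₀ φ = 0 => hc (by rw [eq_div_iff h₀u]; linear_combination he)⟩
    ⟨φ', Or.inr hφ', by
      simpa using fun he : e y φ' + c * e y₀ φ' = 0 => hc' (by rw [eq_div_iff h₀x]; linear_combination he)⟩).2
    f (Or.inr hf) hfx
  simpa [hf0] using h

omit [FiniteDimensional F V] in
/-- in the linear case the functionals at a centre separate the span modulo that centre -/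
theorem separate {u₀ u x : V} (h0 : Cen X u₀) (hL : 2 ≤ Module.finrank F (Ax hG u₀)) (hu : u ∈ K e X u₀)
    (hx : x ∈ U e X u₀) (hperp : ∀ α ∈ Ax hG u, e x α = 0) : x ∈ Submodule.span F {u} := by
  by_contra hni
  have hx0 : x ≠ 0 := fun h => hni (h ▸ Submodule.zero_mem _)
  have hxK := mem_K hG h0 hx hx0
  by_cases hne : Ax hG u = Ax hG x
  swap
  · exact perp_false hG h0 hL hu hxK hperp hne
  obtain ⟨φ, hφ⟩ := K.cen h0 hu
  obtain ⟨y, ψ, hψ, hy, hψu⟩ := hG.partner hφ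
  have hyK : y ∈ K e X u₀ := K.step hu ⟨φ, ψ, hφ, hψ, hy, hψu⟩
  obtain ⟨z, hz⟩ : ∃ z, z = e x ψ • u - e u ψ • x := ⟨_, rfl⟩
  have hzU : z ∈ U e X u₀ := hz ▸ (U e X u₀).sub_mem (Submodule.smul_mem _ _ (Submodule.subset_span hu))
    (Submodule.smul_mem _ _ hx)
  have hz0 : z ≠ 0 := by
    intro h
    refine hni (((Submodule.span F {u}).smul_mem_iff hψu).1 ?_)
    rw [hz, sub_eq_zero] at h
    rw [← h]
    exact Submodule.smul_mem _ _ (Submodule.mem_span_singleton_self u)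
  have hzK := mem_K hG h0 hzU hz0
  have hyz : ∀ f ∈ Ax hG y, e z f = 0 := fun f hf => by
    obtain ⟨k, hk⟩ : ∃ k, k = e u f / e u ψ := ⟨_, rfl⟩
    have h1 : f - k • ψ ∈ Ax hG u := comm_Ax hG hφ hy ((Ax hG y).sub_mem hf (Submodule.smul_mem _ _ (Or.inr hψ)))
      (by rw [map_sub, map_smul, smul_eq_mul, hk, div_mul_cancel₀ _ hψu, sub_self])
    have h2 := hperp _ h1
    have h3 := orth_Ax hG h1
    simp only [map_sub, map_smul, smul_eq_mul] at h2 h3
    simp only [hz, map_sub, map_smul, LinearMap.sub_apply, LinearMap.smul_apply, smul_eq_mul]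
    linear_combination (-(e u ψ)) * h2 + (e x ψ) * h3
  refine perp_false hG h0 hL hu hzK (fun α hα => ?_) fun heq => ?_
  · simp [hz, orth_Ax hG hα, hperp α hα]
  · obtain ⟨f, hf, hfz⟩ := hit_symm hG h0 hzK hyK (mem_Ax hG (heq ▸ (Or.inr hφ : φ ∈ Ax hG u)) (hG.ne_φ hφ)) hy
    exact hfz (hyz f (Or.inr hf))

/-- in the linear case every functional on the span vanishing at a centre is a functional at it -/
theorem axes_full {u₀ u : V} (h0 : Cen X u₀) (hL : 2 ≤ Module.finrank F (Ax hG u₀)) (hu : u ∈ K e X u₀)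
    (θ : Module.Dual F (U e X u₀)) (hθ : θ ⟨u, Submodule.subset_span hu⟩ = 0) :
    ∃ α ∈ Ax hG u, ∀ x : U e X u₀, e x.1 α = θ x := by
  obtain ⟨r, hr⟩ : ∃ r : Ax hG u →ₗ[F] Module.Dual F (U e X u₀), ∀ α x, r α x = e x.1 α.1 :=
    ⟨(LinearMap.lcomp F F (U e X u₀).subtype).comp (e.flip.comp (Ax hG u).subtype), fun α x => rfl⟩
  have hmem : θ ∈ (LinearMap.range r).dualCoannihilator.dualAnnihilator := by
    rw [Submodule.mem_dualAnnihilator]
    intro x hx
    rw [Submodule.mem_dualCoannihilator] at hx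
    obtain ⟨c, hc⟩ := Submodule.mem_span_singleton.1 (separate hG h0 hL hu x.2
      fun α hα => (hr ⟨α, hα⟩ x).symm.trans (hx _ (LinearMap.mem_range_self r ⟨α, hα⟩)))
    rw [show x = c • (⟨u, Submodule.subset_span hu⟩ : U e X u₀) from Subtype.ext hc.symm, map_smul, hθ, smul_zero]
  rw [Subspace.dualCoannihilator_dualAnnihilator_eq] at hmem
  obtain ⟨α, rfl⟩ := LinearMap.mem_range.1 hmem
  exact ⟨α.1, α.2, fun x => (hr α x).symm⟩

omit [FiniteDimensional F V] in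
/-- in the symplectic case the functionals at the centres come from an alternating form -/
theorem exists_form {u₀ : V} (h0 : Cen X u₀) (hS : ¬ 2 ≤ Module.finrank F (Ax hG u₀)) :
    ∃ ω : LinearMap.BilinForm F (U e X u₀), ω.IsAlt ∧ ω.Nondegenerate ∧
      ∀ u : U e X u₀, u ≠ 0 → ∃ φ, X u.1 φ ∧ ∀ x : U e X u₀, e x.1 φ = ω x u := by
  classical
  obtain ⟨φ₀, hφ₀⟩ := id h0
  obtain ⟨y, η, hη, hy, hηu⟩ := hG.partner hφ₀
  have hyK : y ∈ K e X u₀ := ReflTransGen.single ⟨φ₀, η, hφ₀, hη, hy, hηu⟩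
  obtain ⟨O, hO⟩ : ∃ O : Set (U e X u₀), O = {w | e w.1 φ₀ ≠ 0} := ⟨_, rfl⟩
  have hOne : ∀ w ∈ O, w.1 ≠ 0 := fun w hw h => by
    rw [hO] at hw
    exact hw (by rw [h, map_zero, LinearMap.zero_apply])
  have hOK : ∀ w ∈ O, w.1 ∈ K e X u₀ := fun w hw => mem_K hG h0 w.2 (hOne w hw)
  have hhat : ∀ w ∈ O, ∃ ψ, X w.1 ψ ∧ e u₀ ψ = -e w.1 φ₀ := by
    intro w hw
    have hw' : e w.1 φ₀ ≠ 0 := by rw [hO] at hw; exact hw
    obtain ⟨ψ, hψ, hne⟩ := hit_symm hG h0 ReflTransGen.refl (hOK w hw) hφ₀ hw'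
    exact ⟨(-e w.1 φ₀ / e u₀ ψ) • ψ, hG.smul_φ hψ (div_ne_zero (neg_ne_zero.2 hw') hne), by
      rw [map_smul, smul_eq_mul, div_mul_cancel₀ _ hne]⟩
  choose! hat hhat1 hhat2 using hhat
  have hanti : ∀ w ∈ O, ∀ u ∈ O, e u.1 (hat w) = -e w.1 (hat u) := by
    intro w hw u hu
    by_cases hz : e w.1 (hat u) = 0
    · rw [hz, neg_zero]
      by_contra hne
      obtain ⟨f, hf, hfw⟩ := hit_symm hG h0 (hOK w hw) (hOK u hu) (hhat1 w hw) hne
      obtain ⟨c, rfl⟩ := axes_prop hG hS (hOK u hu) (hhat1 u hu) hf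
      exact hfw (by rw [map_smul, hz, smul_zero])
    have hu' : e u.1 φ₀ ≠ 0 := by rw [hO] at hu; exact hu
    obtain ⟨c, hc⟩ : ∃ c, c = -e w.1 φ₀ / (e w.1 (hat u) * e u.1 φ₀) := ⟨_, rfl⟩
    have hc' : c * (e w.1 (hat u) * e u.1 φ₀) = -e w.1 φ₀ := by rw [hc, div_mul_cancel₀ _ (mul_ne_zero hz hu')]
    have hT := hG.conj (hhat1 u hu) (hhat1 w hw) c
    have hTK := line_mem hG h0 (hOK u hu) (hOK w hw) (hhat1 u hu) hz (c * e w.1 (hat u))
    have h5 : e u₀ (hat w - (c * e u.1 (hat w)) • hat u) = 0 := by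
      by_contra hne
      obtain ⟨f, hf, hfT⟩ := hit_symm hG h0 hTK ReflTransGen.refl hT hne
      obtain ⟨k, rfl⟩ := axes_prop hG hS ReflTransGen.refl hφ₀ hf
      refine hfT ?_
      simp only [map_add, map_smul, LinearMap.add_apply, LinearMap.smul_apply, smul_eq_mul]
      linear_combination k * hc'
    rw [map_sub, map_smul, smul_eq_mul, hhat2 w hw, hhat2 u hu] at h5
    have hcu : c * e u.1 φ₀ ≠ 0 := mul_ne_zero (by
      rw [hc]; refine div_ne_zero (neg_ne_zero.2 ?_) (mul_ne_zero hz hu'); rw [hO] at hw; exact hw) hu'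
    apply mul_left_cancel₀ hcu
    linear_combination h5 + hc'
  have hspan : Submodule.span F O = ⊤ := by
    refine Submodule.eq_top_iff'.2 fun w => ?_
    have hyU : y ∈ U e X u₀ := Submodule.subset_span hyK
    have hyO : (⟨y, hyU⟩ : U e X u₀) ∈ O := by rw [hO]; exact hy
    by_cases hw : w ∈ O
    · exact Submodule.subset_span hw
    have hw' : e w.1 φ₀ = 0 := by rw [hO] at hw; exact not_not.1 hw
    have hsum : w + ⟨y, hyU⟩ ∈ O := by
      rw [hO]
      show e (w.1 + y) φ₀ ≠ 0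
      rw [map_add e, LinearMap.add_apply, hw', zero_add]
      exact hy
    simpa using (Submodule.span F O).sub_mem (Submodule.subset_span hsum) (Submodule.subset_span hyO)
  obtain ⟨b, hbO, hbspan, hbli⟩ := exists_linearIndependent F O
  rw [hspan] at hbspan
  obtain ⟨B, hB⟩ : ∃ B : Module.Basis b F (U e X u₀), ∀ i, B i = i.1 :=
    ⟨Module.Basis.mk hbli (by rw [Subtype.range_coe_subtype, Set.setOf_mem_eq, hbspan]), fun i => by simp⟩
  obtain ⟨L, hL⟩ : ∃ L : U e X u₀ →ₗ[F] Module.Dual F (U e X u₀), ∀ i x, L (B i) x = e x.1 (hat i.1) :=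
    ⟨B.constr F fun i => ((e.flip (hat i.1)).comp (U e X u₀).subtype), fun i x => by
      rw [Module.Basis.constr_basis]; rfl⟩
  -- the functional of `L` at a vector of `O`
  have hLO : ∀ w ∈ O, ∀ x : U e X u₀, L w x = e x.1 (hat w) := by
    intro w hw x
    have hx : x ∈ Submodule.span F O := hspan ▸ Submodule.mem_top
    induction hx using Submodule.span_induction with
    | mem x hx =>
      have hlin : ∀ z : U e X u₀, L z x = -e z.1 (hat x) := by
        intro z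
        have h : (LinearMap.applyₗ x).comp L = -((e.flip (hat x)).comp (U e X u₀).subtype) :=
          B.ext fun i => by
            show L (B i) x = -e (B i).1 (hat x)
            rw [hL, hB, hanti _ (hbO i.2) x hx]
        exact LinearMap.congr_fun h z
      rw [hlin, hanti w hw x hx]
    | zero => simp
    | add a c _ _ ha hc => simp [ha, hc]
    | smul k a _ ha => simp [ha]
  have hskew : ∀ x z : U e X u₀, L z x = -L x z := by
    intro x z
    have hx : x ∈ Submodule.span F O := hspan ▸ Submodule.mem_top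
    have hz : z ∈ Submodule.span F O := hspan ▸ Submodule.mem_top
    induction hx using Submodule.span_induction with
    | mem x hx =>
      induction hz using Submodule.span_induction with
      | mem z hz => rw [hLO z hz, hLO x hx, hanti z hz x hx]
      | zero => simp
      | add a c _ _ ha hc => simp [ha, hc]; ring
      | smul k a _ ha => simp [ha]
    | zero => simp
    | add a c _ _ ha hc => simp [ha, hc]; ring
    | smul k a _ ha => simp [ha]
  have halt : L.flip.IsAlt := fun x => by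
    have hx : x ∈ Submodule.span F O := hspan ▸ Submodule.mem_top
    show L x x = 0
    induction hx using Submodule.span_induction with
    | mem x hx => rw [hLO x hx]; exact hG.orth (hhat1 x hx)
    | zero => simp
    | add a c _ _ ha hc => simp [ha, hc, hskew a c]
    | smul k a _ ha => simp [ha]
  -- no vector is killed by all of `O`
  have hnd : ∀ x : U e X u₀, (∀ w ∈ O, L w x = 0) → x = 0 := by
    intro x hx
    by_contra hx0
    have hxK := mem_K hG h0 x.2 fun h => hx0 (Subtype.ext h)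
    obtain ⟨φ, hφ⟩ := K.cen h0 hxK
    refine hG.noRad _ (U_inv hG h0) hφ x.2 fun m hm => ?_
    have hkill : ∀ w ∈ O, e w.1 φ = 0 := fun w hw => by
      by_contra hne
      obtain ⟨f, hf, hfx⟩ := hit_symm hG h0 hxK (hOK w hw) hφ hne
      obtain ⟨c, rfl⟩ := axes_prop hG hS (hOK w hw) (hhat1 w hw) hf
      exact hfx (by rw [map_smul, ← hLO w hw x, hx w hw, smul_zero])
    have hm' : (⟨m, hm⟩ : U e X u₀) ∈ Submodule.span F O := hspan ▸ Submodule.mem_top
    have hker : Submodule.span F O ≤ LinearMap.ker ((e.flip φ).comp (U e X u₀).subtype) :=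
      Submodule.span_le.2 fun w hw => LinearMap.mem_ker.2 (hkill w hw)
    exact LinearMap.mem_ker.1 (hker hm')
  refine ⟨L.flip, halt, ⟨fun x hx => hnd x fun w _ => hx w, fun x hx => hnd x fun w _ => by
    rw [hskew, show L x w = 0 from hx w, neg_zero]⟩, fun u hu => ?_⟩
  show ∃ φ, X u.1 φ ∧ ∀ x : U e X u₀, e x.1 φ = L u x
  by_cases huO : u ∈ O
  · exact ⟨hat u, hhat1 u huO, fun x => (hLO u huO x).symm⟩
  obtain ⟨x, hxO, hxu⟩ : ∃ x ∈ O, L x u ≠ 0 := by
    by_contra hno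
    exact hu (hnd u fun w hw => by_contra fun hne => hno ⟨w, hw, hne⟩)
  have hw : u + x ∈ O := by
    have hu' : e u.1 φ₀ = 0 := by rw [hO] at huO; exact not_not.1 huO
    rw [hO] at hxO ⊢
    show e (u.1 + x.1) φ₀ ≠ 0
    rw [map_add e, LinearMap.add_apply, hu', zero_add]
    exact hxO
  obtain ⟨c, hc⟩ : ∃ c, c = -1 / L x u := ⟨_, rfl⟩
  have hc' : c * L x u = -1 := by rw [hc, div_mul_cancel₀ _ hxu]
  have h := hG.conj (hhat1 x hxO) (hhat1 _ hw) c
  have hxw : e (u + x).1 (hat x) = L x u := by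
    rw [← hLO x hxO, map_add, show L x x = 0 from halt x, add_zero]
  rw [hxw, hc', neg_one_smul, show ((u + x : U e X u₀) : V) + -x.1 = u.1 by simp] at h
  refine ⟨_, h, fun z => ?_⟩
  rw [map_sub, map_smul, smul_eq_mul, ← hLO _ hw, ← hLO x hxO, ← hLO _ hw, map_add, LinearMap.add_apply,
    LinearMap.add_apply, show L x x = 0 from halt x, hskew x u]
  linear_combination (L x z) * hc'

end CfsgLib.RootSub.Pairs
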