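import Cfsg.Prelude.Def_Solvable
import Cfsg.Agent.Lib.RootSub.Pairs.Basic
import Cfsg.Agent.Lib.Invol.BaerSuzuki

/-!
# The centre-axis pairs of a group over a prime field without normal unipotent subgroup
-/

set_option autoImplicit false
set_option linter.all false

namespace CfsgLib.RootSub.Pairs

open Module

variable {F V : Type*} [Field F] [AddCommGroup V] [Module F V]

/-- `g` is `v ↦ v + φ v • u` -/
def Tv (g : V ≃ₗ[F] V) (u : V) (φ : Dual F V) : Prop := ∀ v, g v = v + φ v • u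

/-- the pairs of the transvections in a group -/
def XH (H : Subgroup (V ≃ₗ[F] V)) (u : V) (φ : Dual F V) : Prop :=
  u ≠ 0 ∧ φ ≠ 0 ∧ φ u = 0 ∧ ∃ g ∈ H, Tv g u φ

theorem Tv.pow {g : V ≃ₗ[F] V} {u : V} {φ : Dual F V} (h : Tv g u φ) (h0 : φ u = 0) :
    ∀ (k : ℕ) (v : V), (g ^ k) v = v + ((k : F) * φ v) • u
  | 0, v => by simp
  | k + 1, v => by
    rw [pow_succ', LinearEquiv.mul_apply, Tv.pow h h0 k v, h]
    simp only [map_add, map_smul, h0, smul_eq_mul, mul_zero, add_zero, Nat.cast_succ, add_mul, one_mul, add_smul,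
      add_assoc]

theorem Tv.inv {g : V ≃ₗ[F] V} {u : V} {φ : Dual F V} (h : Tv g u φ) (h0 : φ u = 0) (v : V) :
    g⁻¹ v = v - φ v • u := by
  apply g.injective
  rw [← LinearEquiv.mul_apply, mul_inv_cancel, h]
  simp [h0]

theorem Tv.conj {g k : V ≃ₗ[F] V} {u : V} {φ : Dual F V} (h : Tv k u φ) :
    Tv (g * k * g⁻¹) (g u) (φ.comp (g⁻¹ : V ≃ₗ[F] V).toLinearMap) := fun v => by
  rw [LinearEquiv.mul_apply, LinearEquiv.mul_apply, h, map_add, map_smul, ← LinearEquiv.mul_apply,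
    mul_inv_cancel]
  rfl

/-- `g` is unipotent for the chain `S₁ ≤ S₂` -/
def chainSub (S₁ S₂ : Submodule F V) (h12 : S₁ ≤ S₂) : Subgroup (V ≃ₗ[F] V) where
  carrier := {g | (∀ v, g v - v ∈ S₂) ∧ (∀ v ∈ S₂, g v - v ∈ S₁) ∧ ∀ v ∈ S₁, g v = v}
  one_mem' := ⟨fun v => by simp, fun v _ => by simp, fun v _ => rfl⟩
  mul_mem' := by
    rintro a b ⟨a1, a2, a3⟩ ⟨b1, b2, b3⟩
    refine ⟨fun v => ?_, fun v hv => ?_, fun v hv => ?_⟩
    · have e1 : (a * b) v - v = (a (b v - v) - (b v - v)) + (b v - v) + (a v - v) := by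
        rw [LinearEquiv.mul_apply, map_sub]; abel
      rw [e1]
      exact S₂.add_mem (S₂.add_mem (h12 (a2 _ (b1 v))) (b1 v)) (a1 v)
    · have e1 : (a * b) v - v = a (b v - v) + (a v - v) := by rw [LinearEquiv.mul_apply, map_sub]; abel
      rw [e1, a3 _ (b2 v hv)]
      exact S₁.add_mem (b2 v hv) (a2 v hv)
    · rw [LinearEquiv.mul_apply, b3 v hv, a3 v hv]
  inv_mem' := by
    rintro a ⟨a1, a2, a3⟩
    have e1 : ∀ v, a⁻¹ v - v = -(a (a⁻¹ v) - a⁻¹ v) := fun v => by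
      rw [← LinearEquiv.mul_apply, mul_inv_cancel, neg_sub]; rfl
    refine ⟨fun v => ?_, fun v hv => ?_, fun v hv => a.injective ?_⟩
    · rw [e1]; exact S₂.neg_mem (a1 _)
    · rw [e1]
      refine S₁.neg_mem (a2 _ ?_)
      have e2 : a⁻¹ v = v - (a (a⁻¹ v) - a⁻¹ v) := by
        rw [← LinearEquiv.mul_apply, mul_inv_cancel, LinearEquiv.coe_one, id_eq, sub_sub_cancel]
      rw [e2]
      exact S₂.sub_mem hv (a1 _)
    · rw [← LinearEquiv.mul_apply, mul_inv_cancel, a3 v hv]; rfl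

/-- the elements stabilising a subspace -/
def stabSub (S : Submodule F V) : Subgroup (V ≃ₗ[F] V) where
  carrier := {g | ∀ v, g v ∈ S ↔ v ∈ S}
  one_mem' := fun v => Iff.rfl
  mul_mem' := fun {a b} ha hb v => (ha _).trans (hb v)
  inv_mem' := fun {a} ha v => by
    have h := ha (a⁻¹ v)
    rw [← LinearEquiv.mul_apply, mul_inv_cancel] at h
    exact h.symm

variable {p : ℕ} [Fact p.Prime] [Module (ZMod p) V]

theorem pow_prime_eq_one (hp : Odd p) {S₁ S₂ : Submodule (ZMod p) V} {h12 : S₁ ≤ S₂} {g : V ≃ₗ[ZMod p] V}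
    (hg : g ∈ chainSub S₁ S₂ h12) : g ^ p = 1 := by
  have hpow : ∀ (k : ℕ) (v : V), (g ^ k) v = v + (k : ZMod p) • (g v - v) +
      ((k.choose 2 : ℕ) : ZMod p) • (g (g v - v) - (g v - v)) := by
    intro k
    induction k with
    | zero => intro v; simp
    | succ k ih =>
      intro v
      obtain ⟨a, ha⟩ : ∃ a, a = g v - v := ⟨_, rfl⟩
      obtain ⟨b, hb⟩ : ∃ b, b = g a - a := ⟨_, rfl⟩
      have h1 : g v = v + a := by rw [ha]; abel
      have h2 : g a = a + b := by rw [hb]; abel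
      have h3 : g b = b := hg.2.2 _ (hb ▸ hg.2.1 _ (ha ▸ hg.1 v))
      rw [pow_succ', LinearEquiv.mul_apply, ih v, ← ha, ← hb, map_add, map_add, map_smul, map_smul, h1, h2, h3,
        Nat.choose_succ_succ, Nat.choose_one_right, Nat.cast_succ, Nat.cast_add]
      module
  refine LinearEquiv.ext fun v => ?_
  have h2 : ((p.choose 2 : ℕ) : ZMod p) = 0 := (CharP.cast_eq_zero_iff (ZMod p) p _).2
    (Nat.Prime.dvd_choose_self Fact.out two_ne_zero (by
      obtain ⟨k, rfl⟩ := hp; have := (Fact.out : (2 * k + 1).Prime).two_le; omega))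
  rw [hpow, ZMod.natCast_self, h2, zero_smul, zero_smul, add_zero, add_zero]
  rfl

theorem isPGroup_of_chain (hp : Odd p) {H : Subgroup (V ≃ₗ[ZMod p] V)} {N : Subgroup H}
    {S₁ S₂ : Submodule (ZMod p) V} {h12 : S₁ ≤ S₂} (h : ∀ x ∈ N, (x : V ≃ₗ[ZMod p] V) ∈ chainSub S₁ S₂ h12) :
    IsPGroup p N := fun x => ⟨1, Subtype.ext (Subtype.ext (by simpa using pow_prime_eq_one hp (h x.1 x.2)))⟩

theorem inv_stab {H : Subgroup (V ≃ₗ[ZMod p] V)} {T : Set (V ≃ₗ[ZMod p] V)} (hHT : H = Subgroup.closure T)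
    (hT : ∀ t ∈ T, ∃ u φ, XH H u φ ∧ Tv t u φ) {S : Submodule (ZMod p) V}
    (hS : Inv (Dual.eval (ZMod p) V) (XH H) S) : H ≤ stabSub S := by
  rw [hHT, Subgroup.closure_le]
  intro t ht v
  obtain ⟨u, φ, hX, htv⟩ := hT t ht
  rw [htv]
  rcases hS u φ hX with h | h
  · exact S.add_mem_iff_left (S.smul_mem _ h)
  · refine ⟨fun hv => ?_, fun hv => by rw [show φ v = 0 from h v hv, zero_smul, add_zero]; exact hv⟩
    have h1 : φ v = 0 := by simpa [hX.2.2.1] using h _ hv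
    simpa [h1] using hv

theorem chain_trivial (hp : Odd p) [Finite V] {H : Subgroup (V ≃ₗ[ZMod p] V)} (hOp : Cfsg.pCore p H = ⊥)
    {S₁ S₂ : Submodule (ZMod p) V} (h12 : S₁ ≤ S₂) (h1 : H ≤ stabSub S₁) (h2 : H ≤ stabSub S₂)
    {g : V ≃ₗ[ZMod p] V} (hgH : g ∈ H) (hg : g ∈ chainSub S₁ S₂ h12) : g = 1 := by
  obtain ⟨N, hN⟩ : ∃ N, N = (chainSub S₁ S₂ h12).comap H.subtype := ⟨_, rfl⟩
  have hNn : N.Normal := ⟨fun n hn k => by
    rw [hN] at hn ⊢
    obtain ⟨n1, n2, n3⟩ := hn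
    have hk : ∀ (S : Submodule (ZMod p) V), H ≤ stabSub S → ∀ v, (k : V ≃ₗ[ZMod p] V)⁻¹ v ∈ S ↔ v ∈ S :=
      fun S hS v => hS (H.inv_mem k.2) v
    have hk' : ∀ (S : Submodule (ZMod p) V), H ≤ stabSub S → ∀ v, (k : V ≃ₗ[ZMod p] V) v ∈ S ↔ v ∈ S :=
      fun S hS v => hS k.2 v
    have e1 : ∀ v, ((k * n * k⁻¹ : H) : V ≃ₗ[ZMod p] V) v - v =
        k.1 (n.1 (k.1⁻¹ v) - k.1⁻¹ v) := fun v => by
      have h : k.1 (k.1⁻¹ v) = v := k.1.apply_symm_apply v
      rw [map_sub, h]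
      rfl
    refine ⟨fun v => ?_, fun v hv => ?_, fun v hv => sub_eq_zero.1 ?_⟩
    · show _ - _ ∈ _
      rw [Subgroup.coe_subtype, e1, hk' S₂ h2]
      exact n1 _
    · show _ - _ ∈ _
      rw [Subgroup.coe_subtype, e1, hk' S₁ h1]
      exact n2 _ ((hk S₂ h2 v).2 hv)
    · rw [Subgroup.coe_subtype, e1]
      have := n3 _ ((hk S₁ h1 v).2 hv)
      rw [Subgroup.coe_subtype] at this
      rw [this, sub_self, map_zero]⟩
  have hle : N ≤ Cfsg.pCore p H := le_sSup ⟨hNn, isPGroup_of_chain hp (h12 := h12) fun x hx => by rw [hN] at hx; exact hx⟩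
  have := hle (show (⟨g, hgH⟩ : H) ∈ N by rw [hN]; exact hg)
  rw [hOp, Subgroup.mem_bot] at this
  exact congrArg Subtype.val this

theorem pair_chain {a b : V ≃ₗ[ZMod p] V} {u w : V} {φ ψ : Dual (ZMod p) V} (ha : Tv a u φ) (hb : Tv b w ψ)
    (hu : φ u = 0) (hw : ψ w = 0) (h : φ w = 0) :
    ∀ x ∈ ({a, b} : Set _), x ∈ chainSub (Submodule.span (ZMod p) {w}) (Submodule.span (ZMod p) {u, w})
      (Submodule.span_mono (by simp)) := by
  have hker : Submodule.span (ZMod p) {u, w} ≤ LinearMap.ker φ := Submodule.span_le.2 fun x hx => by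
    rcases hx with rfl | rfl
    exacts [hu, h]
  intro x hx
  rcases hx with rfl | rfl
  · refine ⟨fun v => ?_, fun v hv => ?_, fun v hv => ?_⟩
    · rw [ha, add_sub_cancel_left]
      exact Submodule.smul_mem _ _ (Submodule.subset_span (by simp))
    · rw [ha, LinearMap.mem_ker.1 (hker hv), zero_smul, add_zero, sub_self]
      exact Submodule.zero_mem _
    · rw [ha, LinearMap.mem_ker.1 (hker (Submodule.span_mono (by simp) hv)), zero_smul, add_zero]
  · refine ⟨fun v => ?_, fun v hv => ?_, fun v hv => ?_⟩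
    · rw [hb, add_sub_cancel_left]
      exact Submodule.smul_mem _ _ (Submodule.subset_span (by simp))
    · rw [hb, add_sub_cancel_left]
      exact Submodule.smul_mem _ _ (Submodule.subset_span (by simp))
    · obtain ⟨c, rfl⟩ := Submodule.mem_span_singleton.1 hv
      rw [hb, map_smul, hw, smul_zero, zero_smul, add_zero]

theorem good_of_pCore (hp : Odd p) [Finite V] {H : Subgroup (V ≃ₗ[ZMod p] V)} {T : Set (V ≃ₗ[ZMod p] V)}
    (hHT : H = Subgroup.closure T) (hT : ∀ t ∈ T, ∃ u φ, XH H u φ ∧ Tv t u φ) (hOp : Cfsg.pCore p H = ⊥) :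
    Good (Dual.eval (ZMod p) V) (XH H) := by
  haveI : Finite (V ≃ₗ[ZMod p] V) := Finite.of_injective _ DFunLike.coe_injective
  have hp3 : 3 ≤ p := by
    obtain ⟨k, rfl⟩ := hp; have := (Fact.out : (2 * k + 1).Prime).two_le; omega
  have hval : ∀ c : ZMod p, ((c.val : ℕ) : ZMod p) = c := ZMod.natCast_zmod_val
  have hstab := @inv_stab (hHT := hHT) (hT := hT)
  have noRad : ∀ M, Inv (Dual.eval (ZMod p) V) (XH H) M → ∀ {u φ}, XH H u φ → u ∈ M →
      (∀ m ∈ M, φ m = 0) → False := by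
    intro M hM u φ ⟨hu0, hφ0, hφu, g, hgH, hg⟩ hu hm
    have hg1 := chain_trivial hp hOp le_rfl (inv_stab hHT hT hM) (inv_stab hHT hT hM) hgH
      ⟨fun v => by rw [hg, add_sub_cancel_left]; exact M.smul_mem _ hu,
        fun v _ => by rw [hg, add_sub_cancel_left]; exact M.smul_mem _ hu,
        fun v hv => by rw [hg, hm v hv, zero_smul, add_zero]⟩
    refine hφ0 (LinearMap.ext fun v => ?_)
    have := hg v
    rw [hg1] at this
    exact (smul_eq_zero.1 (left_eq_add.1 this)).resolve_right hu0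
  have dualInv : ∀ M, Inv (Dual.eval (ZMod p) V).flip (fun φ u => XH H u φ) M →
      Inv (Dual.eval (ZMod p) V) (XH H) M.dualCoannihilator := fun M hM u φ h => by
    rcases hM φ u h with hf | hf
    · exact Or.inr fun m hm => (Submodule.mem_dualCoannihilator m).1 hm φ hf
    · exact Or.inl ((Submodule.mem_dualCoannihilator u).2 fun m hm => hf m hm)
  refine
    { room := fun a b => ?_
      orth := fun h => h.2.2.1
      ne_u := fun h => h.1
      ne_φ := fun h => h.2.1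
      smul_u := fun {u φ c} ⟨h1, h2, h3, g, hg, hgt⟩ hc =>
        ⟨smul_ne_zero hc h1, h2, by rw [map_smul, h3, smul_zero], g ^ c.val, H.pow_mem hg _, fun v => by
          rw [hgt.pow h3, hval, smul_smul, mul_comm]⟩
      smul_φ := fun {u φ c} ⟨h1, h2, h3, g, hg, hgt⟩ hc =>
        ⟨h1, smul_ne_zero hc h2, by simp [h3], g ^ c.val, H.pow_mem hg _, fun v => by
          rw [hgt.pow h3, hval]; rfl⟩
      add_φ := fun {u φ ψ} ⟨h1, _, h3, g, hg, hgt⟩ ⟨_, _, k3, k, hk, hkt⟩ hne =>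
        ⟨h1, hne, by simp [h3, k3], g * k, H.mul_mem hg hk, fun v => by
          rw [LinearEquiv.mul_apply, hkt, hgt, map_add, map_smul, h3, smul_zero, add_zero, LinearMap.add_apply,
            add_smul]
          abel⟩
      add_u := fun {u w φ} ⟨_, h2, h3, g, hg, hgt⟩ ⟨_, _, k3, k, hk, hkt⟩ hne =>
        ⟨hne, h2, by simp [h3, k3], g * k, H.mul_mem hg hk, fun v => by
          rw [LinearEquiv.mul_apply, hkt, hgt, map_add, map_smul, k3, smul_zero, add_zero, smul_add]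
          abel⟩
      conj := fun {u φ w ψ} ⟨_, _, h3, g, hg, hgt⟩ ⟨k1, k2, k3, k, hk, hkt⟩ c => ?_
      partner := fun {u φ} hX => ?_
      noRad := fun M hM {u φ} h hu hm => noRad M hM h hu hm
      noRad' := fun M hM {φ u} h hφ hm => noRad _ (dualInv M hM) h
        ((Submodule.mem_dualCoannihilator u).2 fun m hm' => hm m hm')
        fun v hv => (Submodule.mem_dualCoannihilator v).1 hv φ hφ
      twin := fun M hM {u u' φ φ'} h h' hu hu' hW0 hmM => ?_
      twin' := fun M hM {φ φ' u u'} h h' hφ hφ' hf hmM => ?_ }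
  · classical
    obtain ⟨c, -, hc⟩ := Finset.exists_mem_notMem_of_card_lt_card (s := ({a, b} : Finset (ZMod p))) (t := Finset.univ)
      (lt_of_le_of_lt Finset.card_le_two (by rw [Finset.card_univ, ZMod.card]; omega))
    exact ⟨c, fun h => hc (by simp [h]), fun h => hc (by simp [h])⟩
  · have hcw := hgt.pow h3 c.val
    simp only [hval] at hcw
    simp only [Dual.eval_apply]
    obtain ⟨g', hg'⟩ : ∃ g', g' = g ^ c.val := ⟨_, rfl⟩
    rw [← hg'] at hcw
    have hg'H : g' ∈ H := hg' ▸ H.pow_mem hg _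
    have hinv : ∀ v, g'⁻¹ v = v - (c * φ v) • u := fun v => by
      refine Tv.inv (φ := c • φ) (u := u) (fun v => hcw v) ?_ v
      simp [h3]
    have hφeq : (ψ - (c * ψ u) • φ) = ψ.comp (g'⁻¹ : V ≃ₗ[ZMod p] V).toLinearMap := LinearMap.ext fun v => by
      show ψ v - (c * ψ u) * φ v = ψ (g'⁻¹ v)
      rw [hinv, map_sub, map_smul, smul_eq_mul]
      ring
    rw [hφeq, ← hcw w]
    refine ⟨fun h => k1 (g'.injective (by rw [h, map_zero])), fun h => k2 (LinearMap.ext fun v => ?_), ?_,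
      _, H.mul_mem (H.mul_mem hg'H hk) (H.inv_mem hg'H), Tv.conj hkt⟩
    · simpa using LinearMap.congr_fun h (g' v)
    · simpa using k3
  · obtain ⟨h1, h2, h3, g, hg, hgt⟩ := id hX
    by_contra hno
    push Not at hno
    simp only [Dual.eval_apply] at hno
    obtain ⟨N, hNn, hNp, hgN⟩ := CfsgLib.Invol.exists_normal_pGroup_mem (p := p) (x := (⟨g, hg⟩ : H)) fun k => by
      have hkt : Tv (k.1 * g * k.1⁻¹) (k.1 u) (φ.comp (k.1⁻¹ : V ≃ₗ[ZMod p] V).toLinearMap) := Tv.conj hgt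
      have hX' : XH H (k.1 u) (φ.comp (k.1⁻¹ : V ≃ₗ[ZMod p] V).toLinearMap) :=
        ⟨fun h => h1 (k.1.injective (by rw [h, map_zero])), fun h => h2 (LinearMap.ext fun v => by
          simpa using LinearMap.congr_fun h (k.1 v)), by simpa using h3,
          _, H.mul_mem (H.mul_mem k.2 hg) (H.inv_mem k.2), hkt⟩
      have hchain : ∀ {S₁ S₂ : Submodule (ZMod p) V} (h12 : S₁ ≤ S₂), g ∈ chainSub S₁ S₂ h12 →
          k.1 * g * k.1⁻¹ ∈ chainSub S₁ S₂ h12 →
          IsPGroup p (Subgroup.closure ({⟨g, hg⟩, k * ⟨g, hg⟩ * k⁻¹} : Set H)) := fun h12 ha hb =>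
        isPGroup_of_chain hp (h12 := h12) fun x hx => by
          have hle : Subgroup.closure ({⟨g, hg⟩, k * ⟨g, hg⟩ * k⁻¹} : Set H) ≤ (chainSub _ _ h12).comap H.subtype :=
            (Subgroup.closure_le _).2 fun y hy => by
              rcases hy with rfl | rfl
              exacts [ha, hb]
          exact hle hx
      by_cases hcase : φ (k.1 u) = 0
      · exact hchain _ (pair_chain hgt hkt h3 hX'.2.2.1 hcase g (by simp)) (pair_chain hgt hkt h3 hX'.2.2.1 hcase _ (by simp))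
      · have hcase' := hno _ _ hX' hcase
        exact hchain _ (pair_chain hkt hgt hX'.2.2.1 h3 hcase' g (by simp))
          (pair_chain hkt hgt hX'.2.2.1 h3 hcase' _ (by simp))
    have hle : N ≤ Cfsg.pCore p H := le_sSup ⟨hNn, hNp⟩
    have hg1 : (⟨g, hg⟩ : H) = 1 := Subgroup.mem_bot.1 (hOp ▸ hle hgN)
    refine h2 (LinearMap.ext fun v => ?_)
    have := hgt v
    rw [show g = 1 from congrArg Subtype.val hg1] at this
    exact (smul_eq_zero.1 (left_eq_add.1 this)).resolve_right h1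
  · obtain ⟨h1, h2, h3, g, hg, hgt⟩ := id h
    obtain ⟨-, -, k3, k, hk, hkt⟩ := id h'
    simp only [Dual.eval_apply] at hW0 hmM
    obtain ⟨W0, hW⟩ : ∃ W0 : Submodule (ZMod p) V, W0 = (Submodule.span (ZMod p) {ψ | ∃ w, XH H w ψ}).dualCoannihilator :=
      ⟨_, rfl⟩
    have hW' : ∀ v, v ∈ W0 ↔ ∀ w ψ, XH H w ψ → ψ v = 0 := fun v => by
      rw [hW, Submodule.mem_dualCoannihilator]
      refine ⟨fun hv w ψ hψ => hv ψ (Submodule.subset_span ⟨w, hψ⟩), fun hv ψ hψ => ?_⟩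
      induction hψ using Submodule.span_induction with
      | mem x hx => exact hv _ x hx.choose_spec
      | zero => rfl
      | add x y _ _ hx hy => rw [LinearMap.add_apply, hx, hy, add_zero]
      | smul c x _ hx => rw [LinearMap.smul_apply, hx, smul_zero]
    have hinvW : Inv (Dual.eval (ZMod p) V) (XH H) (W0 ⊓ M) := fun w ψ hψ =>
      Or.inr fun m hm => (hW' m).1 hm.1 w ψ hψ
    have hgv : ∀ v ∈ M, (k * g⁻¹) v = v + φ v • (u' - u) := fun v hv => by
      rw [LinearEquiv.mul_apply, hgt.inv h3, hkt, map_sub, map_smul, hmM v hv, hmM u hu, h3, smul_zero, sub_zero,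
        smul_sub]
      abel
    have hone := chain_trivial hp hOp (S₁ := W0 ⊓ M) (S₂ := M) inf_le_right (inv_stab hHT hT hinvW)
      (inv_stab hHT hT hM) (H.mul_mem hk (H.inv_mem hg))
      ⟨fun v => by
        rw [LinearEquiv.mul_apply, hgt.inv h3, hkt, sub_add_eq_add_sub, add_sub_assoc, add_sub_cancel_left]
        exact M.sub_mem (M.smul_mem (φ' (v - φ v • u)) hu') (M.smul_mem (φ v) hu),
      fun v hv => by
        rw [hgv v hv, add_sub_cancel_left]
        exact Submodule.smul_mem _ _ ⟨(hW' _).2 hW0, M.sub_mem hu' hu⟩,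
      fun v hv => by rw [hgv v hv.2, (hW' v).1 hv.1 u φ h, zero_smul, add_zero]⟩
    by_contra hne
    refine noRad M hM h hu fun v hv => ?_
    have := hgv v hv
    rw [hone] at this
    exact (smul_eq_zero.1 (left_eq_add.1 this)).resolve_right (sub_ne_zero.2 hne)
  · obtain ⟨h1, h2, h3, g, hg, hgt⟩ := id h
    obtain ⟨-, -, k3, k, hk, hkt⟩ := id h'
    simp only [LinearMap.flip_apply, Dual.eval_apply, map_sub, LinearMap.sub_apply] at hf hmM
    obtain ⟨S, hS⟩ : ∃ S, S = M.dualCoannihilator := ⟨_, rfl⟩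
    have hSm : ∀ v, v ∈ S ↔ ∀ m ∈ M, m v = 0 := fun v => by rw [hS]; exact Submodule.mem_dualCoannihilator v
    obtain ⟨Z, hZ⟩ : ∃ Z : Submodule (ZMod p) V, Z = S ⊔ Submodule.span (ZMod p) {w | ∃ ψ, XH H w ψ} := ⟨_, rfl⟩
    have hφ'u : φ' u = 0 := by rw [sub_eq_zero.1 (hf φ u h), h3]
    have hgv : ∀ v, (k * g⁻¹) v = v + (φ' v • u' - φ v • u) := fun v => by
      rw [LinearEquiv.mul_apply, hgt.inv h3, hkt, map_sub, map_smul, hφ'u, smul_zero, sub_zero]
      abel
    have hu : u ∈ Z := hZ ▸ Submodule.mem_sup_right (Submodule.subset_span ⟨φ, h⟩)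
    have hu' : u' ∈ Z := hZ ▸ Submodule.mem_sup_right (Submodule.subset_span ⟨φ', h'⟩)
    have heqZ : ∀ v ∈ Z, φ' v = φ v := fun v hv => by
      have hle : Z ≤ LinearMap.ker (φ' - φ) := by
        rw [hZ, sup_le_iff, Submodule.span_le]
        refine ⟨fun x hx => ?_, ?_⟩
        · simp [(hSm x).1 hx φ' hφ', (hSm x).1 hx φ hφ]
        · rintro w ⟨ψ, hψ⟩
          simpa using hf ψ w hψ
      exact sub_eq_zero.1 (LinearMap.mem_ker.1 (hle hv))
    have hone := chain_trivial hp hOp (S₁ := S) (S₂ := Z) (hZ ▸ le_sup_left)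
      (inv_stab hHT hT (hS ▸ dualInv M hM)) (inv_stab hHT hT fun w ψ hψ =>
        Or.inl (hZ ▸ Submodule.mem_sup_right (Submodule.subset_span ⟨ψ, hψ⟩)))
      (H.mul_mem hk (H.inv_mem hg))
      ⟨fun v => by rw [hgv, add_sub_cancel_left]; exact Z.sub_mem (Z.smul_mem _ hu') (Z.smul_mem _ hu),
      fun v hv => by
        rw [hgv, add_sub_cancel_left, heqZ v hv, ← smul_sub]
        exact S.smul_mem _ ((hSm _).2 fun m hm => by rw [map_sub, hmM m hm, sub_self]),
      fun v hv => by rw [hgv, (hSm v).1 hv φ hφ, (hSm v).1 hv φ' hφ']; simp⟩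
    obtain ⟨m, hm, hmu⟩ : ∃ m ∈ M, m u ≠ 0 := by
      by_contra hno
      exact noRad _ (dualInv M hM) h ((Submodule.mem_dualCoannihilator u).2 fun m hm => by_contra fun hne => hno ⟨m, hm, hne⟩)
        fun v hv => (Submodule.mem_dualCoannihilator v).1 hv φ hφ
    refine LinearMap.ext fun v => mul_right_cancel₀ hmu ?_
    have := hgv v
    rw [hone] at this
    have := congrArg m (left_eq_add.1 this)
    rw [map_sub, map_smul, map_smul, hmM m hm, map_zero, sub_eq_zero] at this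
    exact this

end CfsgLib.RootSub.Pairs
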