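import Cfsg.Agent.Lib.RootSub.Pairs.Full

/-!
# The classes split the space
-/

set_option autoImplicit false
set_option linter.all false

namespace CfsgLib.RootSub.Pairs

open Relation

variable {F V V' : Type*} [Field F] [AddCommGroup V] [Module F V] [AddCommGroup V'] [Module F V']
  [FiniteDimensional F V] [FiniteDimensional F V']
variable {e : V →ₗ[F] V' →ₗ[F] F} {X : V → V' → Prop} (hG : Good e X)
include hG

/-- two functionals at one centre lie in one class -/
theorem axis_class {u : V} {φ φ' : V'} (h : X u φ) (h' : X u φ') : φ' ∈ K e.flip (fun f v => X v f) φ := by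
  obtain ⟨w, ψ, hψ, h1, h2⟩ := hG.partner h
  exact mem_K_of_hit hG.swap (u₀ := φ) ⟨u, h⟩ (ReflTransGen.single ⟨u, w, h, hψ, h2, h1⟩) (φ := u) h' h2

theorem ax_class {u₀ w : V} {φ₀ ψ : V'} (h : X u₀ φ₀) (hw : w ∈ K e X u₀) (hψ : X w ψ) :
    ψ ∈ K e.flip (fun f v => X v f) φ₀ := by
  induction hw generalizing ψ with
  | refl => exact axis_class hG h hψ
  | @tail b c _ hR ih =>
    obtain ⟨φ₁, ψ₁, h1, h2, h3, h4⟩ := hR
    exact K.trans (K.step (ih h1) ⟨b, c, h1, h2, h4, h3⟩) (axis_class hG h2 hψ)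

theorem cen_class {u₀ w : V} {φ₀ ψ : V'} (h : X u₀ φ₀) (hψK : ψ ∈ K e.flip (fun f v => X v f) φ₀) (hψ : X w ψ) :
    w ∈ K e X u₀ := by
  simpa using ax_class hG.swap (u₀ := φ₀) (φ₀ := u₀) (w := ψ) (ψ := w) h hψK hψ

/-- the span and the common kernel of a class are complementary -/
theorem isCompl_U_C {u₀ : V} (h0 : Cen X u₀) : IsCompl (U e X u₀) (C e X u₀) := by
  refine ⟨Submodule.disjoint_def.2 fun x hx hC => eq_zero_of_mem_C hG h0 hx hC, ?_⟩
  obtain ⟨φ₀, hφ₀⟩ := id h0
  let U' : Submodule F V' := U e.flip (fun f v => X v f) φ₀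
  let r : U e X u₀ →ₗ[F] Module.Dual F U' := (LinearMap.lcomp F F U'.subtype).comp (e.comp (U e X u₀).subtype)
  let r' : U' →ₗ[F] Module.Dual F (U e X u₀) :=
    (LinearMap.lcomp F F (U e X u₀).subtype).comp (e.flip.comp U'.subtype)
  have hr : Function.Injective r := (injective_iff_map_eq_zero r).2 fun x hx =>
    Subtype.ext (eq_zero_of_mem_C hG h0 x.2 fun w hw ψ hψ =>
      LinearMap.congr_fun hx ⟨ψ, Submodule.subset_span (ax_class hG hφ₀ hw hψ)⟩)
  have hr' : Function.Injective r' := (injective_iff_map_eq_zero r').2 fun ψ hψ =>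
    Subtype.ext (eq_zero_of_mem_C hG.swap (u₀ := φ₀) ⟨u₀, hφ₀⟩ ψ.2 fun θ hθ w hw =>
      LinearMap.congr_fun hψ ⟨w, Submodule.subset_span (cen_class hG hφ₀ hθ hw)⟩)
  have h1 := LinearMap.finrank_le_finrank_of_injective hr
  have h2 := LinearMap.finrank_le_finrank_of_injective hr'
  rw [Subspace.dual_finrank_eq] at h1 h2
  have hsurj : Function.Surjective r := (LinearMap.injective_iff_surjective_of_finrank_eq_finrank
    (by rw [Subspace.dual_finrank_eq]; exact le_antisymm h1 h2)).1 hr
  refine codisjoint_iff.2 (Submodule.eq_top_iff'.2 fun v => ?_)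
  obtain ⟨x, hx⟩ := hsurj ((e v).comp U'.subtype)
  refine Submodule.mem_sup.2 ⟨x.1, x.2, v - x.1, fun w hw ψ hψ => ?_, by abel⟩
  rw [map_sub, LinearMap.sub_apply, sub_eq_zero]
  exact (LinearMap.congr_fun hx ⟨ψ, Submodule.subset_span (ax_class hG hφ₀ hw hψ)⟩).symm

theorem U_le_C {u₀ u : V} (h0 : Cen X u₀) (hu : Cen X u) (hne : u ∉ K e X u₀) : U e X u ≤ C e X u₀ :=
  Submodule.span_le.2 fun w hw w₀ hw₀ ψ hψ =>
    outside_kills hG hu (fun h => hne (K.trans hw₀ (K.symm h))) hψ (Submodule.subset_span hw)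

omit hG [FiniteDimensional F V] [FiniteDimensional F V'] in
theorem U_eq {u₀ u : V} (hu : u ∈ K e X u₀) : U e X u = U e X u₀ :=
  congrArg (Submodule.span F) (Set.ext fun w => ⟨fun h => K.trans hu h, fun h => K.trans (K.symm hu) h⟩)

/-- the finite family of classes, padded by a zero space -/
theorem exists_family [Finite V] :
    ∃ (n : ℕ) (Us Cs : Fin n → Submodule F V), 1 ≤ n ∧ (∀ j, IsCompl (Us j) (Cs j)) ∧
      (∀ j k, j ≠ k → Us j ≤ Cs k) ∧ (∀ u φ, X u φ → ∃ j, u ∈ Us j) ∧
      (∀ j u φ, X u φ → u ∈ Us j → ∀ m ∈ Cs j, e m φ = 0) ∧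
      (∀ j, Us j = ⊥ ∨ ∃ u, Cen X u ∧ Us j = U e X u) := by
  classical
  haveI : Finite (Submodule F V) := Finite.of_injective (fun W : Submodule F V => (W : Set V)) SetLike.coe_injective
  let S := {W : Submodule F V // ∃ u, Cen X u ∧ W = U e X u}
  choose c hc hcU using fun W : S => W.2
  let g := Finite.equivFin (Option S)
  let Uo : Option S → Submodule F V := fun o => o.elim ⊥ fun W => U e X (c W)
  let Co : Option S → Submodule F V := fun o => o.elim ⊤ fun W => C e X (c W)
  refine ⟨_, fun j => Uo (g.symm j), fun j => Co (g.symm j), Nat.card_pos, fun j => ?_, fun j k hjk => ?_,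
    fun u φ h => ?_, fun j u φ h hu => ?_, fun j => ?_⟩
  · show IsCompl (Uo (g.symm j)) (Co (g.symm j))
    rcases g.symm j with _ | W
    exacts [isCompl_bot_top, isCompl_U_C hG (hc W)]
  · have hne : g.symm j ≠ g.symm k := g.symm.injective.ne hjk
    show Uo (g.symm j) ≤ Co (g.symm k)
    revert hne
    rcases g.symm j with _ | A <;> rcases g.symm k with _ | B <;> intro hne
    · exact bot_le
    · exact bot_le
    · exact le_top
    · refine U_le_C hG (hc B) (hc A) fun h => hne (congrArg some (Subtype.ext ?_))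
      rw [hcU A, hcU B, U_eq h]
  · refine ⟨g (some ⟨U e X u, u, ⟨φ, h⟩, rfl⟩), ?_⟩
    show u ∈ Uo (g.symm _)
    rw [g.symm_apply_apply]
    show u ∈ U e X (c _)
    rw [← hcU]
    exact Submodule.subset_span ReflTransGen.refl
  · change u ∈ Uo (g.symm j) at hu
    show ∀ m ∈ Co (g.symm j), e m φ = 0
    revert hu
    rcases g.symm j with _ | W <;> intro hu m hm
    · exact absurd ((Submodule.mem_bot F).1 hu) (hG.ne_u h)
    · exact hm u (cen_mem hG (hc W) ⟨φ, h⟩ hu).1 φ h
  · show Uo (g.symm j) = ⊥ ∨ ∃ u, Cen X u ∧ Uo (g.symm j) = U e X u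
    rcases g.symm j with _ | W
    exacts [Or.inl rfl, Or.inr ⟨c W, hc W, rfl⟩]

omit hG [FiniteDimensional F V] [FiniteDimensional F V'] in
/-- complementary pairs give a direct decomposition -/
theorem isInternal_cases {n : ℕ} {Us Cs : Fin n → Submodule F V} (h1 : ∀ j, IsCompl (Us j) (Cs j))
    (h2 : ∀ j k, j ≠ k → Us j ≤ Cs k) :
    DirectSum.IsInternal (Fin.cases (⨅ j, Cs j) Us : Fin (n + 1) → Submodule F V) := by
  classical
  have hle : ∀ i : Fin (n + 1), ∀ k : Fin n, i ≠ k.succ →
      (Fin.cases (⨅ j, Cs j) Us : Fin (n + 1) → Submodule F V) i ≤ Cs k := by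
    intro i k hik
    induction i using Fin.cases with
    | zero => simp only [Fin.cases_zero]; exact iInf_le _ k
    | succ i => simp only [Fin.cases_succ]; exact h2 i k fun h => hik (congrArg Fin.succ h)
  refine DirectSum.isInternal_submodule_of_iSupIndep_of_iSup_eq_top (fun i => ?_) ?_
  · induction i using Fin.cases with
    | zero =>
      simp only [Fin.cases_zero]
      refine Disjoint.mono_right (iSup₂_le (a := ⨆ j, Us j) fun i hi => ?_) (Submodule.disjoint_def.2 fun x hx hx' => ?_)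
      · induction i using Fin.cases with
        | zero => exact absurd rfl hi
        | succ i => simp only [Fin.cases_succ]; exact le_iSup Us i
      obtain ⟨f, hf, hsum⟩ := (Submodule.mem_iSup_iff_exists_finsupp _ _).1 hx'
      rw [Finsupp.sum_fintype _ _ fun _ => rfl] at hsum
      have hz : ∀ k, f k = 0 := fun k => by
        refine Submodule.disjoint_def.1 (h1 k).disjoint _ (hf k) ?_
        have h : f k = x - ∑ j ∈ Finset.univ.erase k, f j := by
          rw [← hsum, ← Finset.add_sum_erase _ _ (Finset.mem_univ k)]; abel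
        rw [h]
        exact (Cs k).sub_mem ((Submodule.mem_iInf _).1 hx k)
          ((Cs k).sum_mem fun j hj => h2 j k (Finset.ne_of_mem_erase hj) (hf j))
      rw [← hsum]
      exact Finset.sum_eq_zero fun k _ => hz k
    | succ k =>
      simp only [Fin.cases_succ]
      exact (h1 k).disjoint.mono_right (iSup₂_le fun i hi => hle i k hi)
  · refine Submodule.eq_top_iff'.2 fun v => ?_
    have h : ∀ j, ∃ x ∈ Us j, v - x ∈ Cs j := fun j => by
      obtain ⟨x, hx, y, hy, hxy⟩ := Submodule.mem_sup.1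
        ((h1 j).sup_eq_top ▸ Submodule.mem_top : v ∈ Us j ⊔ Cs j)
      exact ⟨x, hx, by rw [← hxy, add_sub_cancel_left]; exact hy⟩
    choose x hx hxC using h
    have h0 : v - ∑ j, x j ∈ ⨅ j, Cs j := (Submodule.mem_iInf _).2 fun k => by
      rw [← Finset.add_sum_erase _ _ (Finset.mem_univ k), ← sub_sub]
      exact (Cs k).sub_mem (hxC k) ((Cs k).sum_mem fun j hj => h2 j k (Finset.ne_of_mem_erase hj) (hx j))
    have hS := Submodule.sum_mem (⨆ i : Fin (n + 1), (Fin.cases (⨅ j, Cs j) Us : Fin (n + 1) → Submodule F V) i)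
      (t := Finset.univ) (f := x) fun j _ => Submodule.mem_iSup_of_mem j.succ (by simp only [Fin.cases_succ]; exact hx j)
    have h := Submodule.add_mem _ (Submodule.mem_iSup_of_mem (0 : Fin (n + 1)) (by simp only [Fin.cases_zero]; exact h0)) hS
    rwa [sub_add_cancel] at h

end CfsgLib.RootSub.Pairs
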